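import Mathlib

/-!
Lower bounds for the dimension of the commutant of a nilpotent endomorphism.
-/

set_option autoImplicit false

namespace CfsgLib.HallHigman

universe u v

variable {K : Type u} [Field K] {W : Type v} [AddCommGroup W] [Module K W]

/-- The commutant of an endomorphism. -/
def commutant (N : Module.End K W) : Submodule K (Module.End K W) where
  carrier := {f | f * N = N * f}
  add_mem' {a b} ha hb := by
    show (a + b) * N = N * (a + b)
    rw [add_mul, mul_add, ha, hb]
  zero_mem' := by
    show (0 : Module.End K W) * N = N * 0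
    rw [zero_mul, mul_zero]
  smul_mem' c a ha := by
    show (c • a) * N = N * (c • a)
    rw [smul_mul_assoc, mul_smul_comm, ha]

theorem mem_commutant {N f : Module.End K W} : f ∈ commutant N ↔ f * N = N * f := Iff.rfl

/-- The map `x ↦ ∑ φ (N^(s-1-k) x) • N^k w`. -/
noncomputable def bmap (N : Module.End K W) (s : ℕ) :
    Module.Dual K W →ₗ[K] W →ₗ[K] Module.End K W :=
  LinearMap.mk₂ K (fun φ w => ∑ k ∈ Finset.range s, (φ ∘ₗ (N ^ (s - 1 - k) : Module.End K W)).smulRight ((N ^ k) w))
    (fun a b w => by
      ext x; simp [Finset.sum_add_distrib, add_smul])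
    (fun c a w => by
      ext x; simp [Finset.smul_sum, smul_smul])
    (fun a w w' => by
      ext x; simp [Finset.sum_add_distrib, smul_add])
    (fun c a w => by
      ext x; simp [Finset.smul_sum, smul_smul, mul_comm c])

theorem bmap_apply (N : Module.End K W) (s : ℕ) (φ : Module.Dual K W) (w x : W) :
    bmap N s φ w x = ∑ k ∈ Finset.range s, φ ((N ^ (s - 1 - k)) x) • (N ^ k) w := by
  simp [bmap]

theorem bmap_mem (N : Module.End K W) (s : ℕ) (hs : N ^ s = 0) (φ : Module.Dual K W) (w : W) :
    bmap N s φ w ∈ commutant N := by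
  rw [mem_commutant]
  ext x
  rw [Module.End.mul_apply, Module.End.mul_apply, bmap_apply, bmap_apply, map_sum]
  simp only [map_smul]
  rcases s with _ | s
  · simp
  rw [Finset.sum_range_succ', Finset.sum_range_succ]
  have hz : (N ^ (s + 1 - 1 - 0)) (N x) = 0 := by
    rw [← Module.End.mul_apply, ← pow_succ, show s + 1 - 1 - 0 + 1 = s + 1 by omega, hs,
      LinearMap.zero_apply]
  have hz' : N ((N ^ s) w) = 0 := by
    rw [← Module.End.mul_apply, ← pow_succ', hs, LinearMap.zero_apply]
  rw [hz, hz', map_zero, zero_smul, add_zero, smul_zero, add_zero]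
  refine Finset.sum_congr rfl fun k hk => ?_
  rw [Finset.mem_range] at hk
  rw [← Module.End.mul_apply (f := N ^ (s + 1 - 1 - (k + 1))), ← pow_succ,
    show s + 1 - 1 - (k + 1) + 1 = s + 1 - 1 - k by omega, ← Module.End.mul_apply (f := N), ← pow_succ']

variable [FiniteDimensional K W]

theorem commutant_bound_aux : ∀ (d : ℕ) (W : Type v) [AddCommGroup W] [Module K W] [FiniteDimensional K W],
    Module.finrank K W = d → ∀ (N : Module.End K W) (s : ℕ), N ^ s = 0 →
      d ≤ Module.finrank K (commutant N) ∧ d ^ 2 ≤ Module.finrank K (commutant N) * s := by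
  classical
  intro d
  induction d using Nat.strong_induction_on with
  | _ d ih =>
  intro W _ _ _ hd N s hs
  rcases Nat.eq_zero_or_pos d with h0 | hpos
  · subst h0; simp
  haveI : Nontrivial W := Module.nontrivial_of_finrank_pos (R := K) (hd ▸ hpos)
  -- exact nilpotency index
  have hex : ∃ s, N ^ s = 0 := ⟨s, hs⟩
  set t := Nat.find hex with ht
  have hts : t ≤ s := Nat.find_min' hex hs
  have htN : N ^ t = 0 := Nat.find_spec hex
  have ht0 : t ≠ 0 := by
    intro h0
    rw [h0, pow_zero] at htN
    obtain ⟨w, hw⟩ := exists_ne (0 : W)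
    exact hw (by simpa using LinearMap.congr_fun htN w)
  obtain ⟨t', ht'⟩ : ∃ t', t = t' + 1 := ⟨t - 1, by omega⟩
  have hne : N ^ t' ≠ 0 := Nat.find_min hex (by omega)
  obtain ⟨v, hv⟩ : ∃ v, (N ^ t') v ≠ 0 := by
    by_contra hc
    push Not at hc
    exact hne (LinearMap.ext hc)
  obtain ⟨φ, hφ⟩ := Module.Projective.exists_dual_ne_zero K hv
  have hbig : ∀ k, t ≤ k → ∀ x : W, (N ^ k) x = 0 := by
    intro k hk x
    obtain ⟨j, rfl⟩ := Nat.exists_eq_add_of_le hk
    rw [pow_add, htN, zero_mul, LinearMap.zero_apply]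
  let L : (Fin t → K) →ₗ[K] W :=
    { toFun := fun c => ∑ k : Fin t, c k • (N ^ (k : ℕ)) v
      map_add' := fun a b => by simp [Finset.sum_add_distrib, add_smul]
      map_smul' := fun a b => by simp [Finset.smul_sum, smul_smul] }
  let Θ : W →ₗ[K] (Fin t → K) := LinearMap.pi fun i => φ ∘ₗ (N ^ (i : ℕ) : Module.End K W)
  have hΘL : Function.Injective (Θ ∘ₗ L) := by
    rw [← LinearMap.ker_eq_bot, LinearMap.ker_eq_bot']
    intro c hc
    by_contra hc0
    have hne' : (Finset.univ.filter fun k : Fin t => c k ≠ 0).Nonempty := by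
      obtain ⟨k, hk⟩ := Function.ne_iff.1 hc0
      exact ⟨k, by simpa using hk⟩
    set j := (Finset.univ.filter fun k : Fin t => c k ≠ 0).min' hne'
    have hj : c j ≠ 0 := by
      have := Finset.min'_mem _ hne'
      exact (Finset.mem_filter.1 this).2
    have := congrFun hc ⟨t' - j, by omega⟩
    simp only [LinearMap.comp_apply, Pi.zero_apply] at this
    simp only [Θ, L, LinearMap.pi_apply, LinearMap.comp_apply, LinearMap.coe_mk, AddHom.coe_mk, map_sum,
      map_smul] at this
    rw [Finset.sum_eq_single j] at this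
    · rw [← Module.End.mul_apply, ← pow_add, show t' - (j : ℕ) + j = t' by omega, smul_eq_mul] at this
      exact mul_ne_zero hj hφ this
    · intro k _ hkj
      by_cases hck : c k = 0
      · rw [hck, zero_smul]
      · have hle : j ≤ k := Finset.min'_le _ k (by simp [hck])
        have hlt : (j : ℕ) < k := lt_of_le_of_ne hle (fun h => hkj (Fin.ext h.symm))
        rw [← Module.End.mul_apply, ← pow_add, hbig _ (by omega), map_zero, smul_zero]
    · simp
  have hLinj : Function.Injective L := fun a b h => hΘL (congrArg Θ h)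
  have hΘsurj : Function.Surjective Θ := fun c => by
    obtain ⟨a, ha⟩ := (LinearMap.injective_iff_surjective (f := Θ ∘ₗ L)).1 hΘL c
    exact ⟨L a, ha⟩
  set U := LinearMap.range L with hU
  set W' := LinearMap.ker Θ with hW'
  have hcompl : IsCompl U W' := by
    refine IsCompl.of_eq ?_ ?_
    · rw [Submodule.eq_bot_iff]
      rintro _ ⟨⟨a, rfl⟩, ha⟩
      have : a = 0 := hΘL (show Θ (L a) = Θ (L 0) by rw [map_zero, map_zero]; exact ha)
      rw [this, map_zero]
    · rw [eq_top_iff]
      intro w _
      obtain ⟨a, ha⟩ := (LinearMap.injective_iff_surjective (f := Θ ∘ₗ L)).1 hΘL (Θ w)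
      have hw : w = L a + (w - L a) := by abel
      rw [hw]
      refine Submodule.add_mem_sup ⟨a, rfl⟩ ?_
      show Θ (w - L a) = 0
      rw [map_sub, sub_eq_zero]
      exact ha.symm
  have hd' : Module.finrank K W' + t = d := by
    have := Θ.finrank_range_add_finrank_ker
    rw [LinearMap.range_eq_top.2 hΘsurj, finrank_top, Module.finrank_fintype_fun_eq_card,
      Fintype.card_fin, hd] at this
    rw [hW']; omega
  have hW'inv : ∀ w ∈ W', N w ∈ W' := by
    intro w hw
    show Θ (N w) = 0
    funext i
    show φ ((N ^ (i : ℕ)) (N w)) = 0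
    rw [← Module.End.mul_apply, ← pow_succ]
    by_cases hi : (i : ℕ) + 1 < t
    · exact congrFun hw ⟨(i : ℕ) + 1, hi⟩
    · rw [hbig _ (by omega), map_zero]
  set N' : Module.End K W' := N.restrict hW'inv with hN'
  have hN'v : ∀ (k : ℕ) (w : W'), ((N' ^ k) w : W) = (N ^ k) (w : W) := by
    intro k
    induction k with
    | zero => intro w; rfl
    | succ k hk =>
      intro w
      rw [pow_succ, pow_succ, Module.End.mul_apply, Module.End.mul_apply, hk]
      rfl
  have hN't : N' ^ t = 0 := by
    ext w
    rw [hN'v, hbig t le_rfl]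
    rfl
  obtain ⟨ih1, ih2⟩ := ih _ (by omega) W' rfl N' t hN't
  -- the annihilator of `U`
  let Ann : Submodule K (Module.Dual K W) := LinearMap.ker
    ({ toFun := fun ψ => fun k : Fin t => ψ ((N ^ (k : ℕ)) v)
       map_add' := fun a b => rfl
       map_smul' := fun a b => rfl } : Module.Dual K W →ₗ[K] (Fin t → K))
  have hAnn : d ≤ Module.finrank K Ann + t := by
    have := LinearMap.finrank_range_add_finrank_ker
      ({ toFun := fun ψ => fun k : Fin t => ψ ((N ^ (k : ℕ)) v)
         map_add' := fun a b => rfl
         map_smul' := fun a b => rfl } : Module.Dual K W →ₗ[K] (Fin t → K))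
    rw [Subspace.dual_finrank_eq, hd] at this
    have hle := (LinearMap.range ({ toFun := fun ψ => fun k : Fin t => ψ ((N ^ (k : ℕ)) v)
                                    map_add' := fun a b => rfl
                                    map_smul' := fun a b => rfl } : Module.Dual K W →ₗ[K] (Fin t → K))).finrank_le
    rw [Module.finrank_fintype_fun_eq_card, Fintype.card_fin] at hle
    show d ≤ Module.finrank K (LinearMap.ker _) + t
    omega
  -- projection onto `W'`
  let pr : W →ₗ[K] W' := LinearMap.ofIsCompl hcompl 0 LinearMap.id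
  have hprU : ∀ u ∈ U, pr u = 0 := fun u hu => by
    simpa [pr] using LinearMap.ofIsCompl_apply_left (h := hcompl) (φ := (0 : U →ₗ[K] W')) (ψ := LinearMap.id) ⟨u, hu⟩
  have hprW : ∀ w : W', pr (w : W) = w := fun w => by
    simpa [pr] using LinearMap.ofIsCompl_apply_right (h := hcompl) (φ := (0 : U →ₗ[K] W')) (ψ := LinearMap.id) w
  have hUinv : ∀ u ∈ U, N u ∈ U := by
    rintro _ ⟨c, rfl⟩
    show N (∑ k : Fin t, c k • (N ^ (k : ℕ)) v) ∈ U
    rw [map_sum]
    refine Submodule.sum_mem _ fun k _ => ?_
    rw [map_smul]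
    refine Submodule.smul_mem _ _ ?_
    rw [← Module.End.mul_apply, ← pow_succ']
    by_cases hk : (k : ℕ) + 1 < t
    · refine ⟨Pi.single ⟨(k : ℕ) + 1, hk⟩ 1, ?_⟩
      show ∑ j : Fin t, _ • _ = _
      rw [Finset.sum_eq_single ⟨(k : ℕ) + 1, hk⟩]
      · simp
      · intro j _ hj; simp [hj]
      · simp
    · rw [hbig _ (by omega)]; exact Submodule.zero_mem _
  have hprN : ∀ x, pr (N x) = N' (pr x) := by
    intro x
    obtain ⟨u, hu, w, hw, rfl⟩ := Submodule.mem_sup.1 (hcompl.sup_eq_top.symm ▸ (Submodule.mem_top : x ∈ ⊤))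
    rw [map_add, map_add, map_add, hprU u hu, hprU _ (hUinv u hu), zero_add, zero_add]
    have h1 := hprW ⟨w, hw⟩
    rw [show pr w = ⟨w, hw⟩ from h1]
    exact hprW ⟨N w, hW'inv w hw⟩
  let E : Module.End K W' →ₗ[K] Module.End K W :=
    { toFun := fun Y => W'.subtype ∘ₗ Y ∘ₗ pr
      map_add' := fun a b => by ext; simp
      map_smul' := fun c a => by ext; simp }
  let Φ : (W × Ann × commutant N') →ₗ[K] Module.End K W :=
    (bmap N t φ).coprod ((((bmap N t).flip v).comp Ann.subtype).coprod (E.comp (commutant N').subtype))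
  have hΦ : ∀ z, Φ z ∈ commutant N := by
    rintro ⟨w, ψ, Y⟩
    refine Submodule.add_mem _ (bmap_mem N t htN φ w) (Submodule.add_mem _ (bmap_mem N t htN _ v) ?_)
    rw [mem_commutant]
    ext x
    show (((Y : Module.End K W') (pr (N x)) : W')  : W) = N (((Y : Module.End K W') (pr x) : W') : W)
    rw [hprN]
    have := LinearMap.congr_fun (mem_commutant.1 Y.2) (pr x)
    rw [Module.End.mul_apply, Module.End.mul_apply] at this
    rw [this]
    rfl
  have hvU : v ∈ U := ⟨Pi.single ⟨0, by omega⟩ 1, by
    show ∑ j : Fin t, _ • _ = _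
    rw [Finset.sum_eq_single ⟨0, by omega⟩]
    · simp
    · intro j _ hj; simp [hj]
    · simp⟩
  have hinj : Function.Injective Φ := by
    rw [injective_iff_map_eq_zero]
    rintro ⟨w, ψ, Y⟩ h
    have hx : ∀ x, bmap N t φ w x + (bmap N t (ψ : Module.Dual K W) v x +
        (((Y : Module.End K W') (pr x) : W') : W)) = 0 := fun x => by
      simpa [Φ, E] using LinearMap.congr_fun h x
    have hψv : bmap N t (ψ : Module.Dual K W) v v = 0 := by
      rw [bmap_apply]
      refine Finset.sum_eq_zero fun k hk => ?_
      rw [Finset.mem_range] at hk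
      rw [show (ψ : Module.Dual K W) ((N ^ (t - 1 - k)) v) = 0 from congrFun ψ.2 ⟨t - 1 - k, by omega⟩,
        zero_smul]
    have hw : w = 0 := by
      have h1 := hx v
      rw [hψv, hprU v hvU, map_zero, ZeroMemClass.coe_zero, add_zero, add_zero, bmap_apply] at h1
      by_contra hw
      have hex2 : ∃ j, (N ^ j) w = 0 := ⟨t, hbig t le_rfl w⟩
      have hj0 : Nat.find hex2 ≠ 0 := fun h0 => hw (by
        have := Nat.find_spec hex2
        rwa [h0, pow_zero] at this)
      obtain ⟨j, hj⟩ : ∃ j, Nat.find hex2 = j + 1 := ⟨Nat.find hex2 - 1, by omega⟩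
      have hjne : (N ^ j) w ≠ 0 := Nat.find_min hex2 (by omega)
      have h2 := congrArg (N ^ j) h1
      rw [map_sum, map_zero, Finset.sum_eq_single 0] at h2
      · rw [map_smul, pow_zero, Module.End.one_apply, show t - 1 - 0 = t' by omega, smul_eq_zero] at h2
        exact h2.elim hφ hjne
      · intro k hk hk0
        rw [map_smul, ← Module.End.mul_apply, ← pow_add]
        have : (N ^ (j + k)) w = 0 := by
          obtain ⟨i, hi⟩ : ∃ i, j + k = i + Nat.find hex2 := ⟨k - 1, by omega⟩
          rw [hi, pow_add, Module.End.mul_apply, Nat.find_spec hex2, map_zero]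
        rw [this, smul_zero]
      · simp; omega
    subst hw
    have hsplit : ∀ x, bmap N t (ψ : Module.Dual K W) v x = 0 ∧ (((Y : Module.End K W') (pr x) : W') : W) = 0 := by
      intro x
      have h1 := hx x
      rw [map_zero, LinearMap.zero_apply, zero_add] at h1
      have hu : bmap N t (ψ : Module.Dual K W) v x ∈ U := by
        rw [bmap_apply]
        refine Submodule.sum_mem _ fun k hk => Submodule.smul_mem _ _ ?_
        rw [Finset.mem_range] at hk
        refine ⟨Pi.single ⟨k, hk⟩ 1, ?_⟩
        show ∑ j : Fin t, _ • _ = _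
        rw [Finset.sum_eq_single ⟨k, hk⟩]
        · simp
        · intro j _ hj; simp [hj]
        · simp
      have hb : bmap N t (ψ : Module.Dual K W) v x ∈ U ⊓ W' := by
        refine ⟨hu, ?_⟩
        rw [eq_neg_of_add_eq_zero_left h1]
        exact Submodule.neg_mem _ (SetLike.coe_mem _)
      rw [hcompl.inf_eq_bot, Submodule.mem_bot] at hb
      rw [hb, zero_add] at h1
      exact ⟨hb, h1⟩
    have hψ : ψ = 0 := by
      apply Subtype.ext
      apply LinearMap.ext
      intro x
      have h1 := (hsplit x).1
      rw [bmap_apply] at h1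
      let c : Fin t → K := fun k => (ψ : Module.Dual K W) ((N ^ (t - 1 - (k : ℕ))) x)
      have hc : L c = 0 := by
        show ∑ k : Fin t, c k • (N ^ (k : ℕ)) v = 0
        rw [Fin.sum_univ_eq_sum_range (fun k => (ψ : Module.Dual K W) ((N ^ (t - 1 - k)) x) • (N ^ k) v)]
        exact h1
      have := congrFun (hLinj (hc.trans (map_zero L).symm)) ⟨t - 1, by omega⟩
      simpa [c] using this
    have hY : Y = 0 := by
      apply Subtype.ext
      apply LinearMap.ext
      intro w'
      have h2 := (hsplit (w' : W)).2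
      rw [hprW] at h2
      exact Subtype.ext h2
    simp [hψ, hY]
  have hdim : d + (Module.finrank K Ann + Module.finrank K (commutant N')) ≤
      Module.finrank K (commutant N) := by
    haveI : Module.Free K Ann := Module.Free.of_divisionRing K Ann
    haveI : Module.Free K (commutant N') := Module.Free.of_divisionRing K (commutant N')
    haveI : Module.Free K (Ann × commutant N') := Module.Free.prod K Ann (commutant N')
    have := LinearMap.finrank_le_finrank_of_injective (f := Φ.codRestrict (commutant N) hΦ)
      (fun a b hab => hinj (congrArg Subtype.val hab))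
    rw [Module.finrank_prod, Module.finrank_prod, hd] at this
    exact this
  refine ⟨by omega, ?_⟩
  calc d ^ 2 ≤ Module.finrank K (commutant N) * t := by
        set F := Module.finrank K (commutant N)
        set F' := Module.finrank K (commutant N')
        set d' := Module.finrank K W'
        have : d' ≤ Module.finrank K Ann := by omega
        calc d ^ 2 = d * t + (d' * t + d' ^ 2) := by rw [← hd']; ring
          _ ≤ d * t + (Module.finrank K Ann * t + F' * t) := by gcongr
          _ = (d + (Module.finrank K Ann + F')) * t := by ring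
          _ ≤ F * t := Nat.mul_le_mul_right t hdim
    _ ≤ _ := Nat.mul_le_mul_left _ hts

/-- The commutant of a nilpotent endomorphism has dimension at least `dim` and at least `dim ^ 2 / s`. -/
theorem finrank_commutant_bound (N : Module.End K W) (s : ℕ) (hs : N ^ s = 0) :
    Module.finrank K W ≤ Module.finrank K (commutant N) ∧
      Module.finrank K W ^ 2 ≤ Module.finrank K (commutant N) * s :=
  commutant_bound_aux _ W rfl N s hs

end CfsgLib.HallHigman
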