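import Mathlib
import Cfsg.Agent.Lib.HallHigman.Nilpotent

/-!
Hall–Higman: the critical case, where the `p`-element moves the twisted group basis of the full
endomorphism algebra freely.
-/

set_option autoImplicit false

namespace CfsgLib.HallHigman

universe u v w

variable {K : Type w} [Field K] {W : Type v} [AddCommGroup W] [Module K W]

/-- An endomorphism is scalar. -/
def IsScal (f : Module.End K W) : Prop := ∃ c : K, f = c • (1 : Module.End K W)

theorem IsScal.commute {f : Module.End K W} (h : IsScal f) (g : Module.End K W) : Commute f g := by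
  obtain ⟨c, rfl⟩ := h
  show (c • (1 : Module.End K W)) * g = g * (c • 1)
  rw [smul_mul_assoc, one_mul, mul_smul_comm, mul_one]

/-- Common eigenvectors for distinct eigenvalue systems are independent. -/
theorem weight_indep {ι H E : Type*} [AddCommGroup E] [Module K E] (T : H → Module.End K E)
    (μ : ι → H → K) (hμ : ∀ i j, i ≠ j → ∃ h, μ i h ≠ μ j h) :
    ∀ (s : Finset ι) (e : ι → E), (∀ i ∈ s, ∀ h, T h (e i) = μ i h • e i) → ∑ i ∈ s, e i = 0 →
      ∀ i ∈ s, e i = 0 := by
  classical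
  intro s
  induction s using Finset.induction_on with
  | empty => intro e _ _ i hi; exact absurd hi (Finset.notMem_empty i)
  | @insert j s hj ih =>
    intro e he hsum
    have hs : ∀ i ∈ s, e i = 0 := by
      intro i hi
      obtain ⟨h, hh⟩ := hμ i j (fun hij => hj (hij ▸ hi))
      have h1 := congrArg (T h - μ j h • (1 : Module.End K E)) hsum
      rw [map_sum, map_zero, Finset.sum_insert hj] at h1
      have h2 : ∀ k ∈ insert j s, (T h - μ j h • (1 : Module.End K E)) (e k) = (μ k h - μ j h) • e k := by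
        intro k hk
        simp [he k hk h, sub_smul]
      rw [h2 j (Finset.mem_insert_self _ _), sub_self, zero_smul, zero_add,
        Finset.sum_congr rfl (fun k hk => h2 k (Finset.mem_insert_of_mem hk))] at h1
      have := ih (fun k => (μ k h - μ j h) • e k) (fun k hk h' => by
        rw [map_smul, he k (Finset.mem_insert_of_mem hk) h', smul_comm]) h1 i hi
      exact (smul_eq_zero.1 this).resolve_left (sub_ne_zero.2 hh)
    rw [Finset.sum_insert hj, Finset.sum_eq_zero hs, add_zero] at hsum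
    intro i hi
    rcases Finset.mem_insert.1 hi with rfl | hi
    · exact hsum
    · exact hs i hi

section Burnside

variable [FiniteDimensional K W] [IsAlgClosed K]

/-- Burnside: an algebra of endomorphisms without invariant subspaces is everything. -/
theorem eq_top_of_irreducible [Nontrivial W] (A : Subalgebra K (Module.End K W))
    (h : ∀ U : Submodule K W, (∀ a ∈ A, ∀ u ∈ U, a u ∈ U) → U = ⊥ ∨ U = ⊤) : A = ⊤ := by
  classical
  haveI : Nontrivial (Submodule A W) := (Submodule.nontrivial_iff A).2 inferInstance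
  haveI hsimple : IsSimpleModule A W := by
    rw [isSimpleModule_iff]
    refine ⟨fun U => ?_⟩
    rcases h (U.restrictScalars K) (fun a ha u hu => U.smul_mem (⟨a, ha⟩ : A) hu) with h' | h'
    · exact Or.inl ((Submodule.restrictScalars_eq_bot_iff K A W).1 h')
    · exact Or.inr ((Submodule.restrictScalars_eq_top_iff K A W).1 h')
  rw [eq_top_iff]
  intro f _
  have hsc := (IsSimpleModule.algebraMap_end_bijective_of_isAlgClosed (A := A) (V := W) K).2
  let f' : Module.End (Module.End A W) W :=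
    { toFun := f
      map_add' := f.map_add
      map_smul' := fun φ w => by
        obtain ⟨c, rfl⟩ := hsc φ
        simp [Module.algebraMap_end_apply] }
  let b := Module.finBasis K W
  obtain ⟨a, ha⟩ := jacobson_density (R := A) f' (Finset.univ.image b)
  have : f = (a : Module.End K W) := b.ext fun i => ha (b i) (Finset.mem_image_of_mem _ (Finset.mem_univ i))
  rw [this]
  exact a.2

end Burnside

variable {G : Type u} [Group G] [Finite G]

theorem rep_conj_smul (ρ : Representation K G W) {g h : G} {c : K} (hc : ρ g = c • ρ h) (k : G) :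
    ρ k * ρ g * ρ k⁻¹ = c • ρ (k * h * k⁻¹) := by
  rw [hc, mul_smul_comm, smul_mul_assoc, ← map_mul, ← map_mul]

theorem rep_ne_zero [Nontrivial W] (ρ : Representation K G W) (g : G) : ρ g ≠ 0 := by
  intro h
  obtain ⟨w, hw⟩ := exists_ne (0 : W)
  apply hw
  have h2 : (ρ g⁻¹ * ρ g) w = w := by rw [← map_mul, inv_mul_cancel, map_one]; rfl
  rw [h, mul_zero] at h2
  exact h2.symm

theorem free_bound [FiniteDimensional K W] [Nontrivial W]
    (ρ : Representation K G W) (p q n : ℕ) [Fact q.Prime] (Q : Subgroup G) (x : G)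
    (hQ : IsPGroup q Q) (hx : ∀ g ∈ Q, x * g * x⁻¹ ∈ Q) (hxP : x ^ p ^ n = 1) (hp : 0 < p)
    (hspan : Submodule.span K (ρ '' (Q : Set G)) = ⊤)
    (hcomm : ∀ g ∈ Q, ∀ h ∈ Q, ∃ c : K, ρ (h * g * h⁻¹) = c • ρ g)
    (hcent : ∀ g ∈ Q, (∀ h ∈ Q, Commute (ρ g) (ρ h)) → IsScal (ρ g))
    (hnt : ∃ g ∈ Q, ¬ IsScal (ρ g))
    (hfree : ∀ i : ℕ, 0 < i → i < p ^ n → ∀ g ∈ Q, (∃ c : K, ρ (x ^ i * g * (x ^ i)⁻¹) = c • ρ g) →
      IsScal (ρ g))
    (r : ℕ) (hr : (ρ x - 1) ^ r = 0) :
    p ^ n ≤ r ∨ (p ^ n - 1 ≤ r ∧ ∃ m : ℕ, 1 ≤ m ∧ p ^ n - 1 = q ^ m) := by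
  classical
  let Zs : Subgroup Q :=
    { carrier := {g | IsScal (ρ (g : G))}
      one_mem' := ⟨1, by simp⟩
      mul_mem' := fun {a b} ⟨c, hc⟩ ⟨c', hc'⟩ => ⟨c * c', by
        rw [Subgroup.coe_mul, map_mul, hc, hc', smul_mul_smul_comm, one_mul]⟩
      inv_mem' := fun {a} ⟨c, hc⟩ => by
        have h1 : c • ρ ((a : G)⁻¹) = (1 : Module.End K W) := by
          have := map_mul ρ (a : G) (a : G)⁻¹
          rw [mul_inv_cancel, map_one, hc, smul_mul_assoc, one_mul] at this
          exact this.symm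
        have hc0 : c ≠ 0 := fun h => by
          rw [h, zero_smul] at h1
          exact one_ne_zero h1.symm
        exact ⟨c⁻¹, by
          rw [Subgroup.coe_inv, ← h1, smul_smul, inv_mul_cancel₀ hc0, one_smul]⟩ }
  haveI : Zs.Normal := ⟨fun z hz g => by
    obtain ⟨c, hc⟩ := hz
    exact ⟨c, by rw [Subgroup.coe_mul, Subgroup.coe_mul, Subgroup.coe_inv, map_mul, map_mul, hc, mul_smul_comm,
      mul_one, smul_mul_assoc, ← map_mul, mul_inv_cancel, map_one]⟩⟩
  let V := Q ⧸ Zs
  have : Fintype V := Fintype.ofFinite _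
  let B : V → Module.End K W := fun v => ρ ((Quotient.out v : Q) : G)
  have hB : ∀ g : Q, ∃ c : K, ρ (g : G) = c • B (QuotientGroup.mk g) := by
    intro g
    obtain ⟨z, hz⟩ := QuotientGroup.mk_out_eq_mul Zs g
    obtain ⟨c, hc⟩ := z.2
    have hc0 : c ≠ 0 := fun h => rep_ne_zero ρ ((z : Q) : G) (by rw [hc, h, zero_smul])
    refine ⟨c⁻¹, ?_⟩
    show ρ (g : G) = c⁻¹ • ρ ((Quotient.out (QuotientGroup.mk g : V) : Q) : G)
    rw [hz, Subgroup.coe_mul, map_mul, hc, mul_smul_comm, mul_one, smul_smul, inv_mul_cancel₀ hc0,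
      one_smul]
  -- spanning
  have hspanB : ⊤ ≤ Submodule.span K (Set.range B) := by
    rw [← hspan, Submodule.span_le]
    rintro _ ⟨g, hg, rfl⟩
    obtain ⟨c, hc⟩ := hB ⟨g, hg⟩
    rw [SetLike.mem_coe, show ρ g = c • B (QuotientGroup.mk ⟨g, hg⟩) from hc]
    exact Submodule.smul_mem _ _ (Submodule.subset_span ⟨_, rfl⟩)
  -- independence
  have hχ : ∀ (v : V) (h : Q), ∃ c : K, ρ ((h : G) * ((Quotient.out v : Q) : G) * (h : G)⁻¹) = c • B v :=
    fun v h => hcomm _ (Quotient.out v : Q).2 _ h.2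
  choose χ hχ using hχ
  have hdist : ∀ v w : V, v ≠ w → ∃ h : Q, χ v h ≠ χ w h := by
    intro v w hvw
    by_contra hc
    push Not at hc
    apply hvw
    rw [← QuotientGroup.out_eq' v, ← QuotientGroup.out_eq' w, QuotientGroup.eq]
    set a := ((Quotient.out v : Q) : G)
    set b := ((Quotient.out w : Q) : G)
    refine hcent _ (Q.mul_mem (Q.inv_mem (Quotient.out v : Q).2) (Quotient.out w : Q).2) fun h hh => ?_
    have ha : ρ (h * a * h⁻¹) = χ v ⟨h, hh⟩ • ρ a := hχ v ⟨h, hh⟩
    have hb : ρ (h * b * h⁻¹) = χ v ⟨h, hh⟩ • ρ b := by rw [hc ⟨h, hh⟩]; exact hχ w ⟨h, hh⟩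
    show ρ (a⁻¹ * b) * ρ h = ρ h * ρ (a⁻¹ * b)
    have h1 : ρ (h * (a⁻¹ * b) * h⁻¹) = ρ (a⁻¹ * b) := by
      have e : ρ (h * a * h⁻¹) * ρ (h * (a⁻¹ * b) * h⁻¹) = ρ (h * b * h⁻¹) := by
        rw [← map_mul]; congr 1; group
      rw [ha, hb, smul_mul_assoc] at e
      have hne : χ v ⟨h, hh⟩ ≠ 0 := fun h0 => rep_ne_zero ρ (h * a * h⁻¹) (by rw [ha, h0, zero_smul])
      have e2 : ρ a * ρ (h * (a⁻¹ * b) * h⁻¹) = ρ b := by
        have := congrArg (fun f => (χ v ⟨h, hh⟩)⁻¹ • f) e
        simpa [smul_smul, inv_mul_cancel₀ hne] using this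
      have e3 := congrArg (fun f => ρ a⁻¹ * f) e2
      simp only [← mul_assoc, ← map_mul, inv_mul_cancel, map_one, one_mul] at e3
      simpa [mul_assoc] using e3
    calc ρ (a⁻¹ * b) * ρ h = ρ (h * (a⁻¹ * b) * h⁻¹) * ρ h := by rw [h1]
      _ = ρ h * ρ (a⁻¹ * b) := by rw [← map_mul, ← map_mul]; congr 1; group
  have hli : LinearIndependent K B := by
    rw [Fintype.linearIndependent_iff]
    intro c hc v
    have h0 := weight_indep (K := K)
      (T := fun h : Q => LinearMap.mulLeftRight K (ρ (h : G), ρ (h : G)⁻¹)) χ hdist Finset.univ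
      (fun v => c v • B v) (fun i _ h => by
        show LinearMap.mulLeftRight K (ρ (h : G), ρ (h : G)⁻¹) (c i • B i) = χ i h • c i • B i
        rw [map_smul, smul_comm (χ i h)]
        congr 1
        rw [← hχ i h, map_mul, map_mul]
        rfl) hc v (Finset.mem_univ v)
    exact (smul_eq_zero.1 h0).resolve_right (rep_ne_zero ρ _)
  let b : Module.Basis V K (Module.End K W) := Module.Basis.mk hli hspanB
  have hbv : ∀ v, b v = B v := fun v => Module.Basis.mk_apply hli hspanB v
  have hd2 : Module.finrank K W * Module.finrank K W = Fintype.card V := by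
    rw [← Module.finrank_eq_card_basis b, Module.finrank_linearMap]
  -- the action of `⟨x⟩`
  let A := Subgroup.zpowers x
  have hxpow : ∀ i : ℕ, ∀ g ∈ Q, x ^ i * g * (x ^ i)⁻¹ ∈ Q := by
    intro i
    induction i with
    | zero => intro g hg; simpa using hg
    | succ i ih =>
      intro g hg
      have := hx _ (ih g hg)
      rw [show x ^ (i + 1) * g * (x ^ (i + 1))⁻¹ = x * (x ^ i * g * (x ^ i)⁻¹) * x⁻¹ by
        rw [pow_succ']; group]
      exact this
  have hA : ∀ a : A, ∃ i : ℕ, x ^ i = (a : G) := fun a =>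
    mem_powers_iff_mem_zpowers.2 a.2
  have hAQ : ∀ a : A, ∀ g ∈ Q, (a : G) * g * (a : G)⁻¹ ∈ Q := by
    intro a g hg
    obtain ⟨i, hi⟩ := hA a
    rw [← hi]
    exact hxpow i g hg
  let act : A → V → V := fun a => Quotient.map'
    (fun g : Q => (⟨(a : G) * g * (a : G)⁻¹, hAQ a g g.2⟩ : Q)) fun g h hgh => by
      rw [QuotientGroup.leftRel_apply] at hgh ⊢
      obtain ⟨c, hc⟩ := hgh
      refine ⟨c, ?_⟩
      have e : ((a : G) * g * (a : G)⁻¹)⁻¹ * ((a : G) * h * (a : G)⁻¹) = (a : G) * ((g : G)⁻¹ * h) * (a : G)⁻¹ := by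
        group
      show ρ (((a : G) * g * (a : G)⁻¹)⁻¹ * ((a : G) * h * (a : G)⁻¹)) = c • 1
      have hc' : ρ ((g : G)⁻¹ * h) = c • (1 : Module.End K W) := hc
      rw [e, map_mul, map_mul, hc', mul_smul_comm, mul_one, smul_mul_assoc, ← map_mul, mul_inv_cancel,
        map_one]
  have hactmk : ∀ (a : A) (g : Q), act a (QuotientGroup.mk g) =
      QuotientGroup.mk (⟨(a : G) * g * (a : G)⁻¹, hAQ a g g.2⟩ : Q) := fun a g => rfl
  let iV : MulAction A V :=
    { smul := act
      one_smul := fun v => by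
        obtain ⟨g, rfl⟩ := QuotientGroup.mk_surjective v
        show act 1 _ = _
        rw [hactmk]
        congr 1
        exact Subtype.ext (by simp)
      mul_smul := fun a a' v => by
        obtain ⟨g, rfl⟩ := QuotientGroup.mk_surjective v
        show act (a * a') _ = act a (act a' _)
        rw [hactmk, hactmk, hactmk]
        congr 1
        exact Subtype.ext (by simp [mul_assoc]) }
  have hone : ∀ a : A, a • (1 : V) = 1 := by
    intro a
    show act a (QuotientGroup.mk 1) = _
    rw [hactmk]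
    congr 1
    exact Subtype.ext (by simp)
  let Y := {v : V // v ≠ 1}
  let iY : MulAction A Y :=
    { smul := fun a v => ⟨a • (v : V), fun h => v.2 (by
        have := congrArg (fun z : V => a⁻¹ • z) h
        simpa [hone] using this)⟩
      one_smul := fun v => Subtype.ext (one_smul A (v : V))
      mul_smul := fun a a' v => Subtype.ext (mul_smul a a' (v : V)) }
  have hfix : ∀ (i : ℕ) (g : Q), 0 < i → i < p ^ n →
      (∃ a : A, (a : G) = x ^ i ∧ a • (QuotientGroup.mk g : V) = QuotientGroup.mk g) →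
      (QuotientGroup.mk g : V) = 1 := by
    rintro i g hi hi' ⟨a, ha, hav⟩
    rw [QuotientGroup.eq_one_iff]
    refine hfree i hi hi' g g.2 ?_
    rw [← ha]
    have h1 := hav.symm
    change QuotientGroup.mk g = act a (QuotientGroup.mk g) at h1
    rw [hactmk, QuotientGroup.eq] at h1
    obtain ⟨c, hc⟩ := h1
    refine ⟨c, ?_⟩
    have e : (a : G) * g * (a : G)⁻¹ = (g : G) * ((g : G)⁻¹ * ((a : G) * g * (a : G)⁻¹)) := by group
    rw [e, map_mul, show ρ ((g : G)⁻¹ * ((a : G) * g * (a : G)⁻¹)) = c • (1 : Module.End K W) from hc,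
      mul_smul_comm, mul_one]
  obtain ⟨g₀, hg₀, hg₀'⟩ := hnt
  have hP : 0 < p ^ n := pow_pos hp n
  have hord : orderOf x = p ^ n := by
    refine le_antisymm (Nat.le_of_dvd hP (orderOf_dvd_of_pow_eq_one hxP)) ?_
    by_contra hlt
    push Not at hlt
    refine hg₀' (hfree (orderOf x) (orderOf_pos x) hlt g₀ hg₀ ⟨1, ?_⟩)
    rw [pow_orderOf_eq_one, one_smul]; simp
  have hstab : ∀ v : Y, MulAction.stabilizer A v = ⊥ := by
    intro v
    rw [Subgroup.eq_bot_iff_forall]
    intro a ha
    obtain ⟨g, hg⟩ := QuotientGroup.mk_surjective (v : V)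
    obtain ⟨i, hi⟩ := hA a
    by_contra ha1
    have hi0 : i % p ^ n ≠ 0 := by
      intro h0
      apply ha1
      apply Subtype.ext
      rw [← hi, ← pow_mod_orderOf x i, hord, h0, pow_zero]
      rfl
    have hi2 : x ^ (i % p ^ n) = (a : G) := by rw [← hi, ← hord, pow_mod_orderOf]
    apply v.2
    rw [← hg]
    refine hfix (i % p ^ n) g (Nat.pos_of_ne_zero hi0) (Nat.mod_lt _ hP) ⟨a, hi2.symm, ?_⟩
    rw [hg]
    exact congrArg Subtype.val ha
  have hcardY : Fintype.card V - 1 = Nat.card (Quotient (MulAction.orbitRel A Y)) * p ^ n := by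
    have := Nat.card_congr (MulAction.selfEquivOrbitsQuotientProd hstab)
    rw [Nat.card_prod, Nat.card_zpowers, hord] at this
    rw [← this, Nat.card_eq_fintype_card, Fintype.card_subtype_compl, Fintype.card_subtype_eq]
  -- fixed points
  have hcoef : ∀ f ∈ commutant (ρ x), ∀ (a : A) (v : V), ∃ t : K, b.repr f (a • v) = t * b.repr f v := by
    intro f hf a v
    obtain ⟨i, hi⟩ := hA a
    have hfa : ρ (a : G) * f * ρ (a : G)⁻¹ = f := by
      have hc : Commute (ρ (a : G)) f := by
        rw [← hi, map_pow]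
        exact (Commute.pow_left (mem_commutant.1 hf).symm i)
      rw [hc.eq, mul_assoc, ← map_mul, mul_inv_cancel, map_one, mul_one]
    have hmove : ∀ u : V, ∃ t : K, ρ (a : G) * B u * ρ (a : G)⁻¹ = t • B (a • u) := by
      intro u
      obtain ⟨g, rfl⟩ := QuotientGroup.mk_surjective u
      obtain ⟨c, hc⟩ := hB g
      obtain ⟨c', hc'⟩ := hB ⟨(a : G) * g * (a : G)⁻¹, hAQ a g g.2⟩
      have hc0 : c ≠ 0 := fun h0 => rep_ne_zero ρ (g : G) (by rw [hc, h0, zero_smul])
      refine ⟨c⁻¹ * c', ?_⟩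
      have hB' : B (QuotientGroup.mk g) = c⁻¹ • ρ (g : G) := by
        rw [hc, smul_smul, inv_mul_cancel₀ hc0, one_smul]
      rw [hB', mul_smul_comm, smul_mul_assoc, ← map_mul, ← map_mul]
      show c⁻¹ • ρ ((⟨(a : G) * g * (a : G)⁻¹, hAQ a g g.2⟩ : Q) : G) = _
      rw [hc', smul_smul]
      rfl
    choose t ht using hmove
    refine ⟨t v, ?_⟩
    have hexp : f = ∑ u, (b.repr f u * t u) • b (a • u) := by
      calc f = ρ (a : G) * f * ρ (a : G)⁻¹ := hfa.symm
        _ = ρ (a : G) * (∑ u, b.repr f u • b u) * ρ (a : G)⁻¹ := by rw [b.sum_repr]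
        _ = _ := by
          rw [Finset.mul_sum, Finset.sum_mul]
          refine Finset.sum_congr rfl fun u _ => ?_
          rw [mul_smul_comm, smul_mul_assoc, hbv, hbv, ht, smul_smul]
    conv_lhs => rw [hexp]
    rw [map_sum, Finsupp.finset_sum_apply, Finset.sum_eq_single v]
    · rw [b.repr.map_smul, b.repr_self, Finsupp.smul_apply, Finsupp.single_eq_same, smul_eq_mul, mul_one, mul_comm]
    · intro u _ huv
      rw [b.repr.map_smul, b.repr_self, Finsupp.smul_apply,
        Finsupp.single_eq_of_ne (fun h => huv ((MulAction.injective a) h).symm), smul_zero]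
    · simp
  let Φ : commutant (ρ x) →ₗ[K] K × (Quotient (MulAction.orbitRel A Y) → K) :=
    { toFun := fun f => (b.repr (f : Module.End K W) 1, fun o => b.repr (f : Module.End K W) ((Quotient.out o : Y) : V))
      map_add' := fun f g => by
        refine Prod.ext ?_ (funext fun o => ?_) <;> simp
      map_smul' := fun c f => by
        refine Prod.ext ?_ (funext fun o => ?_) <;> simp }
  have hΦ : Function.Injective Φ := by
    rw [injective_iff_map_eq_zero]
    intro f hf
    apply Subtype.ext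
    apply b.repr.injective
    rw [ZeroMemClass.coe_zero, map_zero]
    ext v
    rw [Finsupp.zero_apply]
    by_cases hv : v = 1
    · subst hv; exact congrArg Prod.fst hf
    · have h0 : b.repr (f : Module.End K W)
          ((Quotient.out (Quotient.mk'' (⟨v, hv⟩ : Y) : Quotient (MulAction.orbitRel A Y)) : Y) : V) = 0 :=
        congrFun (congrArg Prod.snd hf) _
      obtain ⟨a, ha⟩ := MulAction.orbitRel_apply.1
        (Quotient.exact' (Quotient.out_eq' (Quotient.mk'' (⟨v, hv⟩ : Y) : Quotient (MulAction.orbitRel A Y))))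
      have hv' : v = a⁻¹ • ((Quotient.out (Quotient.mk'' (⟨v, hv⟩ : Y) : Quotient (MulAction.orbitRel A Y)) : Y) : V) := by
        rw [← ha]
        exact (inv_smul_smul a v).symm
      obtain ⟨t, ht⟩ := hcoef f f.2 a⁻¹ _
      rw [hv', ht, h0, mul_zero]
  haveI : Fintype (Quotient (MulAction.orbitRel A Y)) := Fintype.ofFinite _
  have hF : Module.finrank K (commutant (ρ x)) ≤ 1 + Nat.card (Quotient (MulAction.orbitRel A Y)) := by
    refine le_trans (LinearMap.finrank_le_finrank_of_injective hΦ) ?_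
    rw [Module.finrank_prod, Module.finrank_self, Module.finrank_fintype_fun_eq_card, Nat.card_eq_fintype_card]
  have hN : commutant (ρ x - 1) = commutant (ρ x) := by
    ext f
    rw [mem_commutant, mem_commutant, mul_sub, sub_mul, mul_one, one_mul, sub_left_inj]
  obtain ⟨hb1, hb2⟩ := finrank_commutant_bound (ρ x - 1) r hr
  rw [hN] at hb1 hb2
  set F := Module.finrank K (commutant (ρ x))
  set d := Module.finrank K W with hd
  set O := Nat.card (Quotient (MulAction.orbitRel A Y))
  have hV1 : 2 ≤ Fintype.card V := by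
    have hne : (QuotientGroup.mk ⟨g₀, hg₀⟩ : V) ≠ 1 := by
      rw [Ne, QuotientGroup.eq_one_iff]; exact hg₀'
    exact Fintype.one_lt_card_iff.2 ⟨_, _, hne⟩
  have hdd : d * d = O * p ^ n + 1 := by omega
  by_cases hrP : p ^ n ≤ r
  · exact Or.inl hrP
  right
  push Not at hrP
  obtain ⟨e, he⟩ := IsPGroup.index hQ Zs
  have hcardV : Fintype.card V = q ^ e := by rw [← he, Subgroup.index, Nat.card_eq_fintype_card]
  set P := p ^ n with hP'
  have hd2' : 2 ≤ d := by
    rcases Nat.lt_or_ge d 2 with h | h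
    · interval_cases d <;> omega
    · exact h
  have hFO : F * P + 0 ≤ d * d + P - 1 := by
    have := Nat.mul_le_mul_right P hF
    rw [add_mul, one_mul] at this
    omega
  have hdP : d + 1 ≤ P := by
    by_contra hc
    push Not at hc
    have h1 : d ^ 2 ≤ F * (P - 1) := le_trans hb2 (Nat.mul_le_mul_left _ (by omega))
    obtain ⟨P', hP1⟩ : ∃ P', P = P' + 1 := ⟨P - 1, by omega⟩
    rw [hP1] at hFO hc
    rw [hP1, Nat.add_sub_cancel] at h1
    have h2 : F * (P' + 1) ≤ d * d + P' := by omega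
    have h3 : d * d * (P' + 1) ≤ (d * d + P') * P' := by
      calc d * d * (P' + 1) ≤ F * P' * (P' + 1) := by rw [← sq]; exact Nat.mul_le_mul_right _ h1
        _ = F * (P' + 1) * P' := by ring
        _ ≤ _ := Nat.mul_le_mul_right _ h2
    nlinarith
  have hPd : P ≤ d + 1 := by
    obtain ⟨d', hd'⟩ : ∃ d', d = d' + 1 := ⟨d - 1, by omega⟩
    have h2 : d * P ≤ d * d + P - 1 := le_trans (Nat.mul_le_mul_right P hb1) (by omega)
    have h3 : d' * P ≤ d' * (d' + 2) := by
      rw [hd'] at h2
      have e1 : (d' + 1) * P = d' * P + P := by ring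
      have e2 : (d' + 1) * (d' + 1) = d' * (d' + 2) + 1 := by ring
      rw [e1, e2] at h2
      omega
    have := Nat.le_of_mul_le_mul_left h3 (by omega)
    omega
  have hdeq : d = P - 1 := by omega
  obtain ⟨m, hm, hm'⟩ := (Nat.dvd_prime_pow (Fact.out : q.Prime)).1
    (show d ∣ q ^ e from ⟨d, by rw [← hcardV, ← hd2]⟩)
  refine ⟨?_, m, ?_, by omega⟩
  · by_contra hc
    push Not at hc
    have h1 : d ^ 2 ≤ F * (P - 2) := le_trans hb2 (Nat.mul_le_mul_left _ (by omega))
    obtain ⟨P', hP1⟩ : ∃ P', P = P' + 2 := ⟨P - 2, by omega⟩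
    rw [hP1, Nat.add_sub_cancel] at h1
    rw [hP1] at hdeq hFO
    have hdeq' : d = P' + 1 := by omega
    rw [hdeq'] at h1 hFO
    have h2 : F * (P' + 2) ≤ (P' + 1) * (P' + 1) + (P' + 1) := by omega
    have e : (P' + 1) * (P' + 1) + (P' + 1) = (P' + 1) * (P' + 2) := by ring
    rw [e] at h2
    have h3 := Nat.le_of_mul_le_mul_right h2 (by omega)
    nlinarith
  · rcases m with _ | m
    · simp at hm'; omega
    · omega

end CfsgLib.HallHigman
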