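import Mathlib
import Cfsg.Agent.Lib.HallHigman.Free

/-!
Hall–Higman theorem B: restriction to invariant subspaces and quotients, and elementary lemmas.
-/

set_option autoImplicit false

namespace CfsgLib.HallHigman

universe u v w

variable {K : Type w} [Field K] {W : Type v} [AddCommGroup W] [Module K W]
variable {G : Type u} [Group G] [Finite G]

/-- The conclusion of theorem B; `S` is the hypothesis forcing `n₀ = n`, `NA` records non-commutativity. -/
def Bound (p q n r : ℕ) (S NA : Prop) : Prop :=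
  p ^ n ≤ r ∨ ∃ n₀ m : ℕ, 1 ≤ n₀ ∧ n₀ ≤ n ∧ 1 ≤ m ∧ p ^ n₀ - 1 = q ^ m ∧ (S → n₀ = n) ∧ NA ∧
    p ^ (n - n₀) * (p ^ n₀ - 1) ≤ r

theorem Bound.mono {p q n r : ℕ} {S S' NA NA' : Prop} (h : Bound p q n r S NA) (hS : S' → S)
    (hNA : NA → NA') : Bound p q n r S' NA' := by
  rcases h with h | ⟨n₀, m, h1, h2, h3, h4, h5, h6, h7⟩
  · exact Or.inl h
  · exact Or.inr ⟨n₀, m, h1, h2, h3, h4, fun s => h5 (hS s), hNA h6, h7⟩

/-- Every element of `Q` commuting with `y` in the image is scalar. -/
def Strong (ρ : Representation K G W) (Q : Subgroup G) (y : G) : Prop :=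
  ∀ g ∈ Q, Commute (ρ g) (ρ y) → IsScal (ρ g)

/-- The image of `Q` is not commutative. -/
def NonComm (ρ : Representation K G W) (Q : Subgroup G) : Prop :=
  ¬ ∀ g ∈ Q, ∀ h ∈ Q, Commute (ρ g) (ρ h)

theorem inv_eq_pow (g : G) : g⁻¹ = g ^ (orderOf g - 1) :=
  inv_eq_of_mul_eq_one_right (by
    rw [← pow_succ', show orderOf g - 1 + 1 = orderOf g by have := orderOf_pos g; omega, pow_orderOf_eq_one])

/-- Elements commuting with `f` in the image. -/
def commSub (ρ : Representation K G W) (f : Module.End K W) : Subgroup G where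
  carrier := {g | Commute (ρ g) f}
  one_mem' := by
    show Commute (ρ 1) f
    rw [map_one]; exact Commute.one_left f
  mul_mem' {a b} ha hb := by
    show Commute (ρ (a * b)) f
    rw [map_mul]; exact Commute.mul_left ha hb
  inv_mem' {a} ha := by
    show Commute (ρ a⁻¹) f
    rw [inv_eq_pow, map_pow]; exact Commute.pow_left ha _

/-- Elements leaving `U` invariant. -/
def stab (ρ : Representation K G W) (U : Submodule K W) : Subgroup G where
  carrier := {g | ∀ u ∈ U, ρ g u ∈ U}
  one_mem' := fun u hu => by simpa using hu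
  mul_mem' {a b} ha hb u hu := by
    rw [map_mul]; exact ha _ (hb u hu)
  inv_mem' {a} ha := by
    have : ∀ k : ℕ, ∀ u ∈ U, ρ (a ^ k) u ∈ U := by
      intro k
      induction k with
      | zero => intro u hu; simpa using hu
      | succ k ih => intro u hu; rw [pow_succ', map_mul]; exact ha _ (ih u hu)
    intro u hu
    rw [inv_eq_pow]
    exact this _ u hu

/-- The representation on an invariant subspace. -/
def subRep (ρ : Representation K G W) (U : Submodule K W) : Representation K (stab ρ U) U where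
  toFun g := (ρ (g : G)).restrict g.2
  map_one' := LinearMap.ext fun u => Subtype.ext (by
    show ρ ((1 : stab ρ U) : G) (u : W) = (u : W)
    rw [OneMemClass.coe_one, map_one]; rfl)
  map_mul' g h := LinearMap.ext fun u => Subtype.ext (by
    show ρ ((g * h : stab ρ U) : G) (u : W) = ρ (g : G) (ρ (h : G) (u : W))
    rw [Subgroup.coe_mul, map_mul]; rfl)

/-- The representation on the quotient by an invariant subspace. -/
def quotRep (ρ : Representation K G W) (U : Submodule K W) : Representation K (stab ρ U) (W ⧸ U) where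
  toFun g := Submodule.mapQ U U (ρ (g : G)) fun u hu => g.2 u hu
  map_one' := by
    refine Submodule.linearMap_qext _ (LinearMap.ext fun x => ?_)
    simp
  map_mul' g h := by
    refine Submodule.linearMap_qext _ (LinearMap.ext fun x => ?_)
    simp

theorem subRep_apply (ρ : Representation K G W) (U : Submodule K W) (g : stab ρ U) (u : U) :
    ((subRep ρ U g u : U) : W) = ρ (g : G) (u : W) := rfl

theorem quotRep_apply (ρ : Representation K G W) (U : Submodule K W) (g : stab ρ U) (w : W) :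
    quotRep ρ U g (Submodule.Quotient.mk w) = Submodule.Quotient.mk (ρ (g : G) w) := rfl

theorem isScal_subRep (ρ : Representation K G W) (U : Submodule K W) (g : stab ρ U)
    (h : IsScal (ρ (g : G))) : IsScal (subRep ρ U g) := by
  obtain ⟨c, hc⟩ := h
  refine ⟨c, LinearMap.ext fun u => Subtype.ext ?_⟩
  rw [subRep_apply, hc]; rfl

theorem isScal_quotRep (ρ : Representation K G W) (U : Submodule K W) (g : stab ρ U)
    (h : IsScal (ρ (g : G))) : IsScal (quotRep ρ U g) := by
  obtain ⟨c, hc⟩ := h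
  refine ⟨c, LinearMap.ext fun u => ?_⟩
  obtain ⟨u, rfl⟩ := Submodule.Quotient.mk_surjective U u
  rw [quotRep_apply, hc]; rfl

theorem subRep_pow (ρ : Representation K G W) (U : Submodule K W) (g : stab ρ U) :
    ∀ (k : ℕ) (u : U), ((((subRep ρ U g - 1 : Module.End K U) ^ k : Module.End K U) u : U) : W) =
      ((ρ (g : G) - 1 : Module.End K W) ^ k : Module.End K W) (u : W) := by
  intro k
  induction k with
  | zero => intro u; rfl
  | succ k ih =>
    intro u
    rw [pow_succ, pow_succ, Module.End.mul_apply, Module.End.mul_apply, ih]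
    rfl

theorem subRep_nil (ρ : Representation K G W) (U : Submodule K W) (g : stab ρ U) (r : ℕ)
    (hr : (ρ (g : G) - 1) ^ r = 0) : (subRep ρ U g - 1) ^ r = 0 := by
  refine LinearMap.ext fun u => Subtype.ext ?_
  rw [subRep_pow, hr]; rfl

theorem quotRep_nil (ρ : Representation K G W) (U : Submodule K W) (g : stab ρ U) (r : ℕ)
    (hr : (ρ (g : G) - 1) ^ r = 0) : (quotRep ρ U g - 1) ^ r = 0 := by
  have h : ∀ (k : ℕ) (u : W), ((quotRep ρ U g - 1 : Module.End K (W ⧸ U)) ^ k : Module.End K (W ⧸ U))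
      (Submodule.Quotient.mk u) =
      Submodule.Quotient.mk (((ρ (g : G) - 1 : Module.End K W) ^ k : Module.End K W) u) := by
    intro k
    induction k with
    | zero => intro u; rfl
    | succ k ih =>
      intro u
      rw [pow_succ, pow_succ, Module.End.mul_apply, Module.End.mul_apply, ← ih]
      rfl
  refine LinearMap.ext fun u => ?_
  obtain ⟨u, rfl⟩ := Submodule.Quotient.mk_surjective U u
  rw [h, hr]; rfl

/-- A power-commuting pair forces equality to one. -/
theorem eq_one_of_pow {R : Type*} [Monoid R] {f : R} {a b : ℕ} (ha : f ^ a = 1) (hb : f ^ b = 1)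
    (hab : a.Coprime b) : f = 1 := by
  have := pow_gcd_eq_one.2 ⟨ha, hb⟩
  rwa [hab, pow_one] at this

theorem conj_pow_mem {Q : Subgroup G} {x : G} (hx : ∀ g ∈ Q, x * g * x⁻¹ ∈ Q) :
    ∀ (i : ℕ), ∀ g ∈ Q, x ^ i * g * (x ^ i)⁻¹ ∈ Q := by
  intro i
  induction i with
  | zero => intro g hg; simpa using hg
  | succ i ih =>
    intro g hg
    rw [show x ^ (i + 1) * g * (x ^ (i + 1))⁻¹ = x * (x ^ i * g * (x ^ i)⁻¹) * x⁻¹ by rw [pow_succ']; group]
    exact hx _ (ih g hg)

theorem inv_conj_mem {Q : Subgroup G} {x : G} (hx : ∀ g ∈ Q, x * g * x⁻¹ ∈ Q) (i : ℕ) :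
    ∀ g ∈ Q, (x ^ i)⁻¹ * g * x ^ i ∈ Q := by
  intro g hg
  have h := conj_pow_mem hx (i * (orderOf x - 1)) g hg
  have e : x ^ (i * (orderOf x - 1)) = (x ^ i)⁻¹ := by
    rw [mul_comm, pow_mul, ← inv_eq_pow, inv_pow]
  rw [e, inv_inv] at h
  exact h

theorem commute_iff_conj {R : Type*} [AddCommGroup R] [Module K R] {H : Type*} [Group H]
    (ρ : Representation K H R) (g y : H) : Commute (ρ g) (ρ y) ↔ ρ (y * g * y⁻¹) = ρ g := by
  constructor
  · intro h
    rw [map_mul, map_mul, ← h.eq, mul_assoc, ← map_mul, mul_inv_cancel, map_one, mul_one]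
  · intro h
    show ρ g * ρ y = ρ y * ρ g
    conv_lhs => rw [← h]
    rw [← map_mul, ← map_mul]; congr 1; group

/-- Transfer of the conclusion from a smaller representation. -/
theorem descend {W' : Type*} [AddCommGroup W'] [Module K W'] [Nontrivial W'] (ρ : Representation K G W)
    {G₀ : Subgroup G} (ρ' : Representation K G₀ W') {p q n r : ℕ} [Fact p.Prime] [Fact q.Prime] (hpq : p ≠ q)
    (Q : Subgroup G) (hQ : IsPGroup q Q) (hQ₀ : Q ≤ G₀) (y : G) (hy₀ : y ∈ G₀) (hyp : y ^ p = 1)
    (hyQ : ∀ g ∈ Q, y * g * y⁻¹ ∈ Q)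
    (hscal : ∀ g : G₀, IsScal (ρ (g : G)) → IsScal (ρ' g))
    (hcommute : ∀ g h : G₀, Commute (ρ (g : G)) (ρ (h : G)) → Commute (ρ' g) (ρ' h))
    (h : Bound p q n r (Strong ρ' (Q.subgroupOf G₀) ⟨y, hy₀⟩) (NonComm ρ' (Q.subgroupOf G₀))) :
    Bound p q n r (Strong ρ Q y) (NonComm ρ Q) := by
  classical
  refine h.mono ?_ ?_
  · intro hS g hg hgy
    -- the fibre of `g` is invariant under `y` and has `q`-power order
    let C := {k : Q // ρ' ⟨(k : G), hQ₀ k.2⟩ = ρ' g}
    let iota : Q →* G₀ := Subgroup.inclusion hQ₀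
    let N : Subgroup Q :=
      { carrier := {k | ρ' (iota k) = 1}
        one_mem' := by show ρ' (iota 1) = 1; simp
        mul_mem' := fun {a b} ha hb => by
          show ρ' (iota (a * b)) = 1
          rw [map_mul, map_mul, ha, hb, one_mul]
        inv_mem' := fun {a} ha => by
          show ρ' (iota a⁻¹) = 1
          have := map_mul ρ' (iota a) (iota a)⁻¹
          rw [mul_inv_cancel, map_one, ha, one_mul] at this
          rw [map_inv]; exact this.symm }
    let e : N ≃ C :=
      { toFun := fun k => ⟨⟨(g : G), hg⟩ * (k : Q), by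
          show ρ' (iota (⟨(g : G), hg⟩ * (k : Q))) = ρ' g
          rw [map_mul, map_mul, show ρ' (iota (k : Q)) = 1 from k.2, mul_one]
          rfl⟩
        invFun := fun c => ⟨(⟨(g : G), hg⟩ : Q)⁻¹ * c.1, by
          show ρ' (iota ((⟨(g : G), hg⟩ : Q)⁻¹ * c.1)) = 1
          rw [map_mul, map_mul, show ρ' (iota c.1) = ρ' g from c.2, map_inv, ← map_mul]
          have : iota (⟨(g : G), hg⟩ : Q) = g := rfl
          rw [this, inv_mul_cancel, map_one]⟩
        left_inv := fun k => Subtype.ext (by simp)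
        right_inv := fun c => Subtype.ext (by simp) }
    have hcard : ¬ p ∣ Nat.card C := by
      rw [← Nat.card_congr e]
      intro hd
      obtain ⟨a, ha⟩ := IsPGroup.iff_card.1 (hQ.to_subgroup N)
      rw [ha] at hd
      exact hpq ((Nat.prime_dvd_prime_iff_eq Fact.out Fact.out).1 ((Fact.out : p.Prime).dvd_of_dvd_pow hd))
    have hgy' : ρ' (⟨y, hy₀⟩ * g * ⟨y, hy₀⟩⁻¹) = ρ' g := (commute_iff_conj ρ' _ _).1 hgy
    have hpres : ∀ c : C, ρ' ⟨y * (c.1 : G) * y⁻¹, hQ₀ (hyQ _ c.1.2)⟩ = ρ' g := by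
      intro c
      have hc2 : ρ' ⟨(c.1 : G), hQ₀ c.1.2⟩ = ρ' g := c.2
      have e : (⟨y * (c.1 : G) * y⁻¹, hQ₀ (hyQ _ c.1.2)⟩ : G₀) = ⟨y, hy₀⟩ * ⟨(c.1 : G), hQ₀ c.1.2⟩ * ⟨y, hy₀⟩⁻¹ := rfl
      refine Eq.trans ?_ hgy'
      rw [e, map_mul, map_mul, hc2, ← map_mul, ← map_mul]
    let τ : C → C := fun c => ⟨⟨y * (c.1 : G) * y⁻¹, hyQ _ c.1.2⟩, hpres c⟩
    have hτ : ∀ (k : ℕ) (c : C), ((τ^[k] c).1 : G) = y ^ k * (c.1 : G) * (y ^ k)⁻¹ := by
      intro k
      induction k with
      | zero => intro c; simp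
      | succ k ih =>
        intro c
        rw [Function.iterate_succ_apply']
        show y * ((τ^[k] c).1 : G) * y⁻¹ = _
        rw [ih, pow_succ']; group
    have hτp : τ^[p] = id := funext fun c => Subtype.ext (Subtype.ext (by rw [hτ, hyp]; simp))
    obtain ⟨c, hc⟩ : ∃ c : C, τ c = c := by
      by_contra hno
      push Not at hno
      haveI : Fintype C := Fintype.ofFinite _
      let σ : Equiv.Perm C :=
        { toFun := τ
          invFun := τ^[p - 1]
          left_inv := fun c => by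
            rw [← Function.iterate_succ_apply, show (p - 1).succ = p by have := (Fact.out : p.Prime).one_lt; omega, hτp]
            rfl
          right_inv := fun c => by
            have := Function.iterate_succ_apply' τ (p - 1) c
            rw [show (p - 1).succ = p by have := (Fact.out : p.Prime).one_lt; omega, hτp] at this
            exact this.symm }
      have hσ : σ ^ p ^ 1 = 1 := by
        rw [pow_one]
        ext1 c
        show (⇑(σ ^ p)) c = c
        rw [Equiv.Perm.coe_pow]
        exact congrFun hτp c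
      have hfix : ¬ p ∣ Fintype.card C := by rwa [Nat.card_eq_fintype_card] at hcard
      obtain ⟨c, hc⟩ := Equiv.Perm.exists_fixed_point_of_prime (σ := σ) hfix hσ
      exact hno c hc
    have hfixG : y * (c.1 : G) * y⁻¹ = (c.1 : G) := congrArg (fun z : C => (z.1 : G)) hc
    have hs := hS _ c.1.2 ((commute_iff_conj ρ _ _).2 (by rw [hfixG]))
    have := hscal ⟨(c.1 : G), hQ₀ c.1.2⟩ hs
    rwa [show ρ' ⟨(c.1 : G), hQ₀ c.1.2⟩ = ρ' g from c.2] at this
  · intro hNA hall
    exact hNA fun g hg k hk => hcommute g k (hall _ hg _ hk)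

end CfsgLib.HallHigman
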