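import Mathlib
import Cfsg.Agent.Lib.HallHigman.Descend

/-!
Hall–Higman theorem B for a `p`-element normalising a `q`-group in a representation in characteristic `p`.
-/

set_option autoImplicit false

namespace CfsgLib.HallHigman

universe u v w

variable {K : Type w} [Field K]

theorem sub_one_pow_char {R : Type*} [Ring R] [Algebra K R] (p a : ℕ) [Fact p.Prime] [CharP K p] (f : R) :
    (f - 1) ^ p ^ a = f ^ p ^ a - 1 := by
  have h : ((Polynomial.X : Polynomial K) - 1) ^ p ^ a = Polynomial.X ^ p ^ a - 1 := by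
    rw [sub_pow_char_pow, one_pow]
  simpa using congrArg (Polynomial.aeval f) h

theorem sub_one_pow_pred {R : Type*} [Ring R] [Algebra K R] (p a : ℕ) [Fact p.Prime] [CharP K p] (f : R) :
    (f - 1) ^ (p ^ a - 1) = ∑ i ∈ Finset.range (p ^ a), f ^ i := by
  have hX : ((Polynomial.X : Polynomial K) - 1) ≠ 0 := by
    rw [← Polynomial.C_1]; exact Polynomial.X_sub_C_ne_zero 1
  have hpos : 0 < p ^ a := pow_pos (Fact.out : p.Prime).pos a
  have h : ((Polynomial.X : Polynomial K) - 1) ^ (p ^ a - 1) = ∑ i ∈ Finset.range (p ^ a), Polynomial.X ^ i := by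
    apply mul_right_cancel₀ hX
    rw [← pow_succ, show p ^ a - 1 + 1 = p ^ a by omega, geom_sum_mul, sub_pow_char_pow, one_pow]
  simpa using congrArg (Polynomial.aeval f) h

section

variable {W : Type v} [AddCommGroup W] [Module K W] [FiniteDimensional K W] {G : Type u} [Group G] [Finite G]

theorem conj_commute (ρ : Representation K G W) {a b : G} (h : Commute (ρ a) (ρ b)) (c : G) :
    Commute (ρ (c * a * c⁻¹)) (ρ (c * b * c⁻¹)) := by
  show _ * _ = _ * _
  rw [← map_mul, ← map_mul, show c * a * c⁻¹ * (c * b * c⁻¹) = c * (a * b) * c⁻¹ by group,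
    show c * b * c⁻¹ * (c * a * c⁻¹) = c * (b * a) * c⁻¹ by group]
  simp only [map_mul]
  rw [h.eq]

theorem exists_min_invariant [Nontrivial W] (ρ : Representation K G W) (Q : Subgroup G) :
    ∃ U : Submodule K W, U ≠ ⊥ ∧ (∀ g ∈ Q, ∀ u ∈ U, ρ g u ∈ U) ∧
      ∀ U' : Submodule K W, U' ≤ U → U' ≠ ⊥ → (∀ g ∈ Q, ∀ u ∈ U', ρ g u ∈ U') → U' = U := by
  classical
  have hex : ∃ d, ∃ U : Submodule K W, U ≠ ⊥ ∧ (∀ g ∈ Q, ∀ u ∈ U, ρ g u ∈ U) ∧ Module.finrank K U = d :=
    ⟨_, ⊤, top_ne_bot, fun _ _ _ _ => Submodule.mem_top, rfl⟩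
  obtain ⟨U, h1, h2, h3⟩ := Nat.find_spec hex
  refine ⟨U, h1, h2, fun U' hle hne hinv => Submodule.eq_of_le_of_finrank_le hle ?_⟩
  rw [h3]
  exact Nat.find_min' hex ⟨U', hne, hinv, rfl⟩

variable [IsAlgClosed K]

/-- With scalar centre and commutators, an irreducible extension by a `p`-element spans everything. -/
theorem span_eq_top_of_scalar [Nontrivial W] (ρ : Representation K G W)
    (P : ℕ) (hP0 : 0 < P) (Q : Subgroup G) (x : G) (hx : ∀ g ∈ Q, x * g * x⁻¹ ∈ Q) (hxP : x ^ P = 1)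
    (hcomm : ∀ g ∈ Q, ∀ h ∈ Q, ∃ c : K, ρ (h * g * h⁻¹) = c • ρ g)
    (hcent : ∀ g ∈ Q, (∀ h ∈ Q, Commute (ρ g) (ρ h)) → IsScal (ρ g))
    (hirr : ∀ U : Submodule K W, (∀ g ∈ Q, ∀ u ∈ U, ρ g u ∈ U) → (∀ u ∈ U, ρ x u ∈ U) → U = ⊥ ∨ U = ⊤) :
    Submodule.span K (ρ '' (Q : Set G)) = ⊤ := by
  classical
  haveI : Fintype G := Fintype.ofFinite G
  obtain ⟨U, hU0, hUinv, hUmin⟩ := exists_min_invariant ρ Q
  haveI : Nontrivial U := (Submodule.nontrivial_iff_ne_bot).2 hU0
  let A := Algebra.adjoin K (ρ '' (Q : Set G))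
  have hAspan : Subalgebra.toSubmodule A = Submodule.span K (ρ '' (Q : Set G)) := by
    rw [Algebra.adjoin_eq_span]
    congr 1
    let M : Submonoid (Module.End K W) :=
      { carrier := ρ '' (Q : Set G)
        one_mem' := ⟨1, Q.one_mem, map_one ρ⟩
        mul_mem' := by
          rintro _ _ ⟨a, ha, rfl⟩ ⟨b, hb, rfl⟩
          exact ⟨a * b, Q.mul_mem ha hb, map_mul ρ a b⟩ }
    exact congrArg SetLike.coe (Submonoid.closure_eq M)
  have hgA : ∀ g ∈ Q, ρ g ∈ A := fun g hg => Algebra.subset_adjoin ⟨g, hg, rfl⟩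
  have hAU : ∀ a ∈ A, ∀ u ∈ U, a u ∈ U := by
    intro a ha
    induction ha using Algebra.adjoin_induction with
    | mem a ha => obtain ⟨g, hg, rfl⟩ := ha; exact hUinv g hg
    | algebraMap c => intro u hu; rw [Module.algebraMap_end_apply]; exact U.smul_mem c hu
    | add a b _ _ iha ihb => intro u hu; rw [LinearMap.add_apply]; exact U.add_mem (iha u hu) (ihb u hu)
    | mul a b _ _ iha ihb => intro u hu; rw [Module.End.mul_apply]; exact iha _ (ihb u hu)
  let res : A →ₐ[K] Module.End K U :=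
    { toFun := fun a => (a : Module.End K W).restrict (hAU a a.2)
      map_one' := LinearMap.ext fun u => Subtype.ext rfl
      map_mul' := fun a b => LinearMap.ext fun u => Subtype.ext rfl
      map_zero' := LinearMap.ext fun u => Subtype.ext rfl
      map_add' := fun a b => LinearMap.ext fun u => Subtype.ext rfl
      commutes' := fun c => LinearMap.ext fun u => Subtype.ext rfl }
  have hsurj : Function.Surjective res := by
    rw [← AlgHom.range_eq_top]
    refine eq_top_of_irreducible _ fun U' hU' => ?_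
    by_cases h0 : U' = ⊥
    · exact Or.inl h0
    right
    have h := hUmin (U'.map U.subtype) (Submodule.map_subtype_le _ _)
      (fun h => h0 (by
        rw [Submodule.eq_bot_iff]
        intro u hu
        have hm : ((u : U) : W) ∈ U'.map U.subtype := Submodule.mem_map_of_mem hu
        rw [h, Submodule.mem_bot] at hm
        exact Subtype.ext hm))
      (by
        rintro g hg _ ⟨u, hu, rfl⟩
        exact ⟨res ⟨ρ g, hgA g hg⟩ u, hU' _ ⟨_, rfl⟩ u hu, rfl⟩)
    rw [eq_top_iff]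
    intro u _
    have hu : (u : W) ∈ U'.map U.subtype := by rw [h]; exact u.2
    obtain ⟨u', hu', e⟩ := hu
    rwa [← Subtype.ext e]
  have hinj : Function.Injective res := by
    rw [injective_iff_map_eq_zero]
    intro a ha
    have hmem : (a : Module.End K W) ∈ Submodule.span K (ρ '' (Q : Set G)) := by rw [← hAspan]; exact a.2
    rw [Submodule.mem_span_set'] at hmem
    obtain ⟨N, c, g, hsum⟩ := hmem
    have hμ : ∀ i : Fin N, ∀ h : Q, ∃ t : K, ρ (h : G) * (g i : Module.End K W) * ρ (h : G)⁻¹ = t • (g i : Module.End K W) := by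
      intro i h
      obtain ⟨g', hg', e⟩ := (g i).2
      obtain ⟨t, ht⟩ := hcomm g' hg' h h.2
      exact ⟨t, by rw [← e, ← map_mul, ← map_mul]; exact ht⟩
    choose μ hμ using hμ
    let ι := {m : Q → K // m ∈ Finset.univ.image μ}
    letI : Fintype ι := Finset.Subtype.fintype _
    let e : ι → Module.End K W := fun m => ∑ i ∈ Finset.univ.filter (fun i => μ i = m.1), c i • (g i : Module.End K W)
    have hsum' : ∑ m : ι, e m = (a : Module.End K W) := by
      rw [← hsum, ← Finset.sum_fiberwise_of_maps_to (g := μ) (t := Finset.univ.image μ)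
        (fun i _ => Finset.mem_image_of_mem μ (Finset.mem_univ i)) (fun i => c i • (g i : Module.End K W))]
      exact Finset.sum_coe_sort (Finset.univ.image μ)
        (fun m => ∑ i ∈ Finset.univ.filter (fun i => μ i = m), c i • (g i : Module.End K W))
    have he : ∀ m : ι, ∃ (t : K) (g₁ : Q), e m = t • ρ (g₁ : G) := by
      rintro ⟨m, hm⟩
      obtain ⟨i₀, -, rfl⟩ := Finset.mem_image.1 hm
      obtain ⟨g₁, hg₁, eg₁⟩ := (g i₀).2
      have : ∀ i, μ i = μ i₀ → ∃ t : K, (g i : Module.End K W) = t • ρ g₁ := by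
        intro i hi
        obtain ⟨g₂, hg₂, eg₂⟩ := (g i).2
        obtain ⟨t, ht⟩ := hcent (g₁⁻¹ * g₂) (Q.mul_mem (Q.inv_mem hg₁) hg₂) fun h hh => by
          rw [commute_iff_conj]
          have ha : ρ h * ρ g₁ * ρ h⁻¹ = μ i₀ ⟨h, hh⟩ • ρ g₁ := by rw [eg₁]; exact hμ i₀ ⟨h, hh⟩
          have hb : ρ h * ρ g₂ * ρ h⁻¹ = μ i₀ ⟨h, hh⟩ • ρ g₂ := by rw [eg₂, ← hi]; exact hμ i ⟨h, hh⟩
          have hne : μ i₀ ⟨h, hh⟩ ≠ 0 := fun h0 => rep_ne_zero ρ (h * g₁ * h⁻¹) (by
            rw [map_mul, map_mul, ha, h0, zero_smul])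
          have e1 : ρ (h * g₁ * h⁻¹) * ρ (h * (g₁⁻¹ * g₂) * h⁻¹) = ρ (h * g₂ * h⁻¹) := by
            rw [← map_mul]; congr 1; group
          rw [map_mul (x := h * g₁), map_mul (x := h), ha, map_mul (x := h * g₂), map_mul (x := h), hb,
            smul_mul_assoc] at e1
          have e2 := congrArg (fun f => (μ i₀ ⟨h, hh⟩)⁻¹ • f) e1
          simp only [smul_smul, inv_mul_cancel₀ hne, one_smul] at e2
          have e3 := congrArg (fun f => ρ g₁⁻¹ * f) e2
          simp only [← mul_assoc, ← map_mul, inv_mul_cancel, map_one, one_mul] at e3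
          simpa [mul_assoc] using e3
        refine ⟨t, ?_⟩
        rw [← eg₂, show g₂ = g₁ * (g₁⁻¹ * g₂) by group, map_mul, ht, mul_smul_comm, mul_one]
      choose! t ht using this
      refine ⟨∑ i ∈ Finset.univ.filter (fun i => μ i = μ i₀), c i * t i, ⟨g₁, hg₁⟩, ?_⟩
      rw [Finset.sum_smul]
      refine Finset.sum_congr rfl fun i hi => ?_
      rw [ht i (Finset.mem_filter.1 hi).2, smul_smul]
    choose t g₁ ht using he
    have heA : ∀ m, e m ∈ A := fun m => by
      rw [ht]; exact A.smul_mem (hgA _ (g₁ m).2) _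
    have hconj : ∀ (m : ι) (h : Q), ρ (h : G) * e m * ρ (h : G)⁻¹ = m.1 h • e m := by
      intro m h
      simp only [e, Finset.mul_sum, Finset.sum_mul, Finset.smul_sum]
      refine Finset.sum_congr rfl fun i hi => ?_
      rw [mul_smul_comm, smul_mul_assoc, hμ, (Finset.mem_filter.1 hi).2, smul_comm]
    have h0 : ∀ m : ι, res ⟨e m, heA m⟩ = 0 := fun m => by
      refine weight_indep (K := K)
        (T := fun h : Q => LinearMap.mulLeftRight K
          (res ⟨ρ (h : G), hgA _ h.2⟩, res ⟨ρ (h : G)⁻¹, hgA _ (Q.inv_mem h.2)⟩))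
        (μ := fun m : ι => m.1) (fun i j hij => Function.ne_iff.1 (fun h => hij (Subtype.ext h)))
        Finset.univ (fun m => res ⟨e m, heA m⟩) ?_ ?_ m (Finset.mem_univ m)
      · intro i _ h
        show res ⟨ρ (h : G), hgA _ h.2⟩ * res ⟨e i, heA i⟩ * res ⟨ρ (h : G)⁻¹, hgA _ (Q.inv_mem h.2)⟩ =
          i.1 h • res ⟨e i, heA i⟩
        rw [← map_mul, ← map_mul, ← map_smul]
        congr 1
        exact Subtype.ext (hconj i h)
      · rw [← map_sum, ← ha]
        congr 1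
        apply Subtype.ext
        rw [← hsum']
        simp [AddSubmonoidClass.coe_finsetSum]
    have ht0 : ∀ m, e m = 0 := by
      intro m
      rw [ht]
      by_contra hne
      have hne' : t m ≠ 0 := fun h => hne (by rw [h, zero_smul])
      obtain ⟨u, hu⟩ := exists_ne (0 : U)
      have h1 : t m • ρ (g₁ m : G) (u : W) = 0 := by
        have := congrArg (fun f : Module.End K U => ((f u : U) : W)) (h0 m)
        have h2 : ((res ⟨e m, heA m⟩ u : U) : W) = e m (u : W) := rfl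
        rw [h2, ht] at this
        simpa using this
      have h3 : ρ (g₁ m : G) (u : W) = 0 := (smul_eq_zero.1 h1).resolve_left hne'
      have h4 := congrArg (ρ (g₁ m : G)⁻¹) h3
      rw [map_zero, ← Module.End.mul_apply, ← map_mul, inv_mul_cancel, map_one] at h4
      exact hu (Subtype.ext h4)
    apply Subtype.ext
    rw [← hsum']
    exact Finset.sum_eq_zero fun m _ => ht0 m
  let eA : A ≃ₐ[K] Module.End K U := AlgEquiv.ofBijective res ⟨hinj, hsurj⟩
  have hxA : ∀ (i : ℕ), ∀ a ∈ A, ρ (x ^ i) * a * ρ (x ^ i)⁻¹ ∈ A := by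
    intro i a ha
    induction ha using Algebra.adjoin_induction with
    | mem a ha =>
      obtain ⟨g, hg, rfl⟩ := ha
      rw [← map_mul, ← map_mul]
      exact hgA _ (conj_pow_mem hx i g hg)
    | algebraMap c =>
      rw [← Algebra.commutes, mul_assoc, ← map_mul, mul_inv_cancel, map_one, mul_one]
      exact A.algebraMap_mem c
    | add a b _ _ iha ihb => rw [mul_add, add_mul]; exact A.add_mem iha ihb
    | mul a b _ _ iha ihb =>
      have : ρ (x ^ i) * (a * b) * ρ (x ^ i)⁻¹ =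
          (ρ (x ^ i) * a * ρ (x ^ i)⁻¹) * (ρ (x ^ i) * b * ρ (x ^ i)⁻¹) := by
        rw [show (ρ (x ^ i) * a * ρ (x ^ i)⁻¹) * (ρ (x ^ i) * b * ρ (x ^ i)⁻¹) =
            ρ (x ^ i) * a * (ρ (x ^ i)⁻¹ * ρ (x ^ i)) * b * ρ (x ^ i)⁻¹ by noncomm_ring,
          ← map_mul, inv_mul_cancel, map_one, mul_one]
        noncomm_ring
      rw [this]; exact A.mul_mem iha ihb
  have hxA1 : ∀ a ∈ A, ρ x * a * ρ x⁻¹ ∈ A := fun a ha => by simpa using hxA 1 a ha
  let α : A →ₐ[K] A :=
    { toFun := fun a => ⟨ρ x * (a : Module.End K W) * ρ x⁻¹, hxA1 a a.2⟩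
      map_one' := Subtype.ext (by
        show ρ x * 1 * ρ x⁻¹ = 1
        rw [mul_one, ← map_mul, mul_inv_cancel, map_one])
      map_mul' := fun a b => Subtype.ext (by
        show ρ x * ((a : Module.End K W) * b) * ρ x⁻¹ = (ρ x * a * ρ x⁻¹) * (ρ x * b * ρ x⁻¹)
        rw [show (ρ x * (a : Module.End K W) * ρ x⁻¹) * (ρ x * b * ρ x⁻¹) =
          ρ x * a * (ρ x⁻¹ * ρ x) * b * ρ x⁻¹ by noncomm_ring, ← map_mul, inv_mul_cancel, map_one, mul_one]
        noncomm_ring)
      map_zero' := Subtype.ext (by show ρ x * 0 * ρ x⁻¹ = 0; rw [mul_zero, zero_mul])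
      map_add' := fun a b => Subtype.ext (by
        show ρ x * ((a : Module.End K W) + b) * ρ x⁻¹ = ρ x * a * ρ x⁻¹ + ρ x * b * ρ x⁻¹
        rw [mul_add, add_mul])
      commutes' := fun c => Subtype.ext (by
        show ρ x * algebraMap K _ c * ρ x⁻¹ = algebraMap K _ c
        rw [← Algebra.commutes, mul_assoc, ← map_mul, mul_inv_cancel, map_one, mul_one]) }
  have hαinj : Function.Injective α := by
    intro a b hab
    have h := congrArg (fun z : A => ρ x⁻¹ * (z : Module.End K W) * ρ x) hab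
    have key : ∀ c : Module.End K W, ρ x⁻¹ * (ρ x * c * ρ x⁻¹) * ρ x = c := fun c => by
      rw [show ρ x⁻¹ * (ρ x * c * ρ x⁻¹) * ρ x = (ρ x⁻¹ * ρ x) * c * (ρ x⁻¹ * ρ x) by noncomm_ring,
        ← map_mul, inv_mul_cancel, map_one, one_mul, mul_one]
    exact Subtype.ext ((key _).symm.trans (h.trans (key _)))
  let β : Module.End K U →ₐ[K] Module.End K U := res.comp (α.comp eA.symm.toAlgHom)
  have hβinj : Function.Injective β := hinj.comp (hαinj.comp eA.symm.injective)
  let βe : Module.End K U ≃ₐ[K] Module.End K U := AlgEquiv.ofBijective β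
    ⟨hβinj, (LinearMap.injective_iff_surjective (f := β.toLinearMap)).1 hβinj⟩
  obtain ⟨T, hT⟩ := AlgEquiv.eq_linearEquivConjAlgEquiv βe
  obtain ⟨a0, ha0⟩ := hsurj (T : U →ₗ[K] U)
  obtain ⟨a0', ha0'⟩ := hsurj (T.symm : U →ₗ[K] U)
  have hI1 : a0 * a0' = 1 := hinj (by
    rw [map_mul, map_one, ha0, ha0']; exact LinearMap.ext fun u => T.apply_symm_apply u)
  have hkey : ∀ c : A, α c * a0 = a0 * c := by
    intro c
    apply hinj
    rw [map_mul, map_mul, ha0]
    have h := AlgEquiv.congr_fun hT (res c)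
    have e : β (res c) = res (α c) := by
      show res (α (eA.symm (eA c))) = res (α c)
      rw [AlgEquiv.symm_apply_apply]
    have h' : res (α c) = (T : U →ₗ[K] U) * res c * (T.symm : U →ₗ[K] U) := by
      rw [← e]; exact h
    rw [h', mul_assoc, show ((T.symm : U →ₗ[K] U) * (T : U →ₗ[K] U) : Module.End K U) = 1 from
      LinearMap.ext fun u => T.symm_apply_apply u, mul_one]
  have hiter : ∀ (i : ℕ) (c : A), α^[i] c * a0 ^ i = a0 ^ i * c := by
    intro i
    induction i with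
    | zero => intro c; simp
    | succ i ih =>
      intro c
      rw [Function.iterate_succ_apply, pow_succ, ← mul_assoc, ih, mul_assoc, hkey, ← mul_assoc]
  have hαi : ∀ (i : ℕ) (c : A), ((α^[i] c : A) : Module.End K W) = ρ (x ^ i) * c * ρ (x ^ i)⁻¹ := by
    intro i
    induction i with
    | zero => intro c; simp
    | succ i ih =>
      intro c
      rw [Function.iterate_succ_apply']
      show ρ x * ((α^[i] c : A) : Module.End K W) * ρ x⁻¹ = _
      rw [ih, ← mul_assoc, ← mul_assoc, ← map_mul, mul_assoc, ← map_mul, pow_succ', mul_inv_rev]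
  have hcent0 : ∀ c : A, c * a0 ^ P = a0 ^ P * c := fun c => by
    have h1 := hiter P c
    have : α^[P] c = c := Subtype.ext (by rw [hαi, hxP]; simp)
    rwa [this] at h1
  obtain ⟨μ₀, hμ₀⟩ : ∃ μ₀ : K, a0 ^ P = algebraMap K A μ₀ := by
    obtain ⟨ν, hν⟩ := Module.End.exists_eigenvalue (res (a0 ^ P))
    refine ⟨ν, hinj ?_⟩
    rw [AlgHom.commutes]
    have hall : Module.End.eigenspace (res (a0 ^ P)) ν = ⊤ := by
      rw [eq_top_iff]
      intro u _
      obtain ⟨v, hv⟩ := hν.exists_hasEigenvector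
      obtain ⟨φ, hφ⟩ := Module.Projective.exists_dual_eq_one K hv.2
      obtain ⟨c, hc⟩ := hsurj (φ.smulRight u)
      have h1 := congrArg res (hcent0 c)
      rw [map_mul, map_mul, hc] at h1
      rw [Module.End.mem_eigenspace_iff]
      have h2 := LinearMap.congr_fun h1 v
      rw [Module.End.mul_apply, Module.End.mul_apply, hv.apply_eq_smul, LinearMap.smulRight_apply,
        LinearMap.smulRight_apply, map_smul, hφ, smul_eq_mul, mul_one] at h2
      rw [one_smul] at h2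
      exact h2.symm
    apply LinearMap.ext
    intro u
    have : u ∈ Module.End.eigenspace (res (a0 ^ P)) ν := hall ▸ Submodule.mem_top
    rw [Module.algebraMap_end_apply]
    exact Module.End.mem_eigenspace_iff.1 this
  have hμne : μ₀ ≠ 0 := by
    intro h0
    rw [h0, map_zero] at hμ₀
    have h1 : (res a0) ^ P = 0 := by rw [← map_pow, hμ₀, map_zero]
    have h2 : res a0 * res a0' = 1 := by rw [← map_mul, hI1, map_one]
    have hinj' : Function.Injective (res a0) := by rw [ha0]; exact T.injective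
    have h3 : ∀ k, Function.Injective ((res a0) ^ k : Module.End K U) := by
      intro k
      induction k with
      | zero => exact fun a b h => h
      | succ k ih => rw [pow_succ]; exact ih.comp hinj'
    obtain ⟨u, hu⟩ := exists_ne (0 : U)
    exact hu (h3 P (by rw [h1]; simp))
  obtain ⟨z, hz⟩ := IsAlgClosed.exists_pow_nat_eq μ₀ hP0
  have hz0 : z ≠ 0 := fun h => hμne (by rw [← hz, h, zero_pow hP0.ne'])
  set a1 : A := z⁻¹ • a0 with ha1
  have ha1P : a1 ^ P = 1 := by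
    rw [ha1, smul_pow, hμ₀, Algebra.algebraMap_eq_smul_one, smul_smul, inv_pow, hz, inv_mul_cancel₀ hμne, one_smul]
  have hkey1 : ∀ c : A, ρ x * (c : Module.End K W) * ρ x⁻¹ * a1 = (a1 : Module.End K W) * c := by
    intro c
    have h1 : ((α c * a0 : A) : Module.End K W) = ((a0 * c : A) : Module.End K W) := congrArg Subtype.val (hkey c)
    rw [Subalgebra.coe_mul, Subalgebra.coe_mul] at h1
    have h2 : ρ x * (c : Module.End K W) * ρ x⁻¹ * (a0 : Module.End K W) = (a0 : Module.End K W) * c := h1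
    rw [ha1, Subalgebra.coe_smul, mul_smul_comm, h2, smul_mul_assoc]
  set X := ρ x with hX
  set a : Module.End K W := (a1 : Module.End K W) with ha
  have haP : a ^ P = 1 := by rw [ha, ← SubmonoidClass.coe_pow, ha1P]; rfl
  have hXP : X ^ P = 1 := by rw [hX, ← map_pow, hxP, map_one]
  set a' := a ^ (P - 1) with ha'
  have haa' : a * a' = 1 := by rw [ha', ← pow_succ', show P - 1 + 1 = P by omega, haP]
  have ha'a : a' * a = 1 := by rw [ha', ← pow_succ, show P - 1 + 1 = P by omega, haP]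
  have hXX : ρ x⁻¹ * X = 1 := by rw [hX, ← map_mul, inv_mul_cancel, map_one]
  have hXA : ∀ c ∈ A, X * c = a * c * a' * X := by
    intro c hc
    have h := hkey1 ⟨c, hc⟩
    calc X * c = X * c * ρ x⁻¹ * (a * a') * X := by rw [haa', mul_one, mul_assoc, hXX, mul_one]
      _ = (X * c * ρ x⁻¹ * a) * a' * X := by noncomm_ring
      _ = a * c * a' * X := by rw [h]
  have hXa : Commute X a := by
    show X * a = a * X
    rw [hXA a a1.2, mul_assoc a a a', haa', mul_one]
  set b := X * a' with hb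
  have hXa' : Commute X a' := hXa.pow_right _
  have hbA : ∀ c ∈ A, Commute b c := by
    intro c hc
    show X * a' * c = c * (X * a')
    rw [hXa'.eq, mul_assoc a' X c, hXA c hc, show a' * (a * c * a' * X) = (a' * a) * c * a' * X by noncomm_ring,
      ha'a, one_mul, mul_assoc c a' X, ← hXa'.eq]
  have hbX : Commute b X := ((Commute.refl X).mul_left hXa'.symm)
  obtain ⟨c, hc⟩ := Module.End.exists_eigenvalue b
  have hkerinv : ∀ f : Module.End K W, Commute b f →
      ∀ u ∈ Module.End.eigenspace b c, f u ∈ Module.End.eigenspace b c := by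
    intro f hf u hu
    rw [Module.End.mem_eigenspace_iff] at hu ⊢
    rw [← Module.End.mul_apply, hf.eq, Module.End.mul_apply, hu, map_smul]
  have htop := (hirr _ (fun g hg => hkerinv _ (hbA _ (hgA g hg))) (hkerinv _ hbX)).resolve_left hc
  have hb1 : b = c • (1 : Module.End K W) := LinearMap.ext fun w => by
    have hw : w ∈ Module.End.eigenspace b c := htop ▸ Submodule.mem_top
    simpa using Module.End.mem_eigenspace_iff.1 hw
  have hxmem : X ∈ A := by
    have : X = c • a := by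
      calc X = X * (a' * a) := by rw [ha'a, mul_one]
        _ = b * a := by rw [hb, mul_assoc]
        _ = c • a := by rw [hb1, smul_mul_assoc, one_mul]
    rw [this]; exact A.smul_mem a1.2 c
  have hUtop : U = ⊤ := (hirr U hUinv (hAU X hxmem)).resolve_left hU0
  rw [← hAspan, eq_top_iff]
  intro f _
  obtain ⟨c, hc⟩ := hsurj (f.restrict (p := U) (q := U) fun u _ => by rw [hUtop]; trivial)
  have : f = (c : Module.End K W) := LinearMap.ext fun w => by
    have := congrArg (fun F : Module.End K U => ((F ⟨w, by rw [hUtop]; trivial⟩ : U) : W)) hc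
    exact this.symm
  rw [this]
  exact c.2

end

variable [IsAlgClosed K]

theorem theoremB_aux (p q : ℕ) [Fact p.Prime] [Fact q.Prime] (hpq : p ≠ q) [CharP K p] :
    ∀ (d c : ℕ) (G : Type u) [Group G] [Finite G] (W : Type v) [AddCommGroup W] [Module K W]
      [FiniteDimensional K W] (ρ : Representation K G W) (Q : Subgroup G) (x : G) (n r : ℕ),
      Module.finrank K W = d → Nat.card Q = c → IsPGroup q Q → (∀ g ∈ Q, x * g * x⁻¹ ∈ Q) →
      x ^ p ^ n = 1 → 1 ≤ n → (∃ g ∈ Q, ¬ Commute (ρ g) (ρ (x ^ p ^ (n - 1)))) → (ρ x - 1) ^ r = 0 →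
      Bound p q n r (Strong ρ Q (x ^ p ^ (n - 1))) (NonComm ρ Q) := by
  classical
  intro d
  induction d using Nat.strong_induction_on with
  | _ d ihd =>
  intro c
  induction c using Nat.strong_induction_on with
  | _ c ihc =>
  intro G _ _ W _ _ _ ρ Q x n r hd hc hQ hx hxP hn hnc hr
  have hp := (Fact.out : p.Prime)
  set y := x ^ p ^ (n - 1) with hy
  have hyp : y ^ p = 1 := by
    rw [hy, ← pow_mul, ← pow_succ, show n - 1 + 1 = n by omega, hxP]
  have hyQ : ∀ g ∈ Q, y * g * y⁻¹ ∈ Q := conj_pow_mem hx _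
  obtain ⟨g₀, hg₀Q, hg₀⟩ := hnc
  haveI : Nontrivial W := by
    by_contra h
    rw [not_nontrivial_iff_subsingleton] at h
    exact hg₀ (LinearMap.ext fun w => Subsingleton.elim _ _)
  have hqpow : ∀ g ∈ Q, ∃ e : ℕ, g ^ q ^ e = 1 := fun g hg => by
    obtain ⟨e, he⟩ := hQ ⟨g, hg⟩
    exact ⟨e, congrArg Subtype.val he⟩
  have hunip : ∀ g ∈ Q, ρ g ^ p = 1 → ρ g = 1 := by
    intro g hg h
    obtain ⟨e, he⟩ := hqpow g hg
    exact eq_one_of_pow h (by rw [← map_pow, he, map_one])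
      (Nat.Coprime.pow_right e ((Nat.coprime_primes hp Fact.out).2 hpq))
  -- a smaller invariant subgroup
  by_cases hex : ∃ Q₁ : Subgroup G, Q₁ < Q ∧ (∀ g ∈ Q₁, x * g * x⁻¹ ∈ Q₁) ∧ ∃ g ∈ Q₁, ¬ Commute (ρ g) (ρ y)
  · obtain ⟨Q₁, hlt, hinv, hnc₁⟩ := hex
    have hcard : Nat.card Q₁ < c := by
      rw [← hc]
      refine lt_of_le_of_ne (Nat.card_mono (Set.toFinite _) hlt.le) fun he => hlt.ne ?_
      exact Subgroup.eq_of_le_of_card_ge hlt.le he.ge
    have := ihc _ hcard G W ρ Q₁ x n r hd rfl (hQ.to_le hlt.le) hinv hxP hn hnc₁ hr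
    exact this.mono (fun hS g hg => hS g (hlt.le hg)) (fun h hall => h fun g hg k hk => hall g (hlt.le hg) k (hlt.le hk))
  push Not at hex
  -- reducible case
  by_cases hred : ∃ U : Submodule K W, (∀ g ∈ Q, ∀ u ∈ U, ρ g u ∈ U) ∧ (∀ u ∈ U, ρ x u ∈ U) ∧ U ≠ ⊥ ∧ U ≠ ⊤
  · obtain ⟨U, hUQ, hUx, hU0, hUt⟩ := hred
    have hQ₀ : Q ≤ stab ρ U := fun g hg => hUQ g hg
    have hx₀ : x ∈ stab ρ U := hUx
    have hy₀ : y ∈ stab ρ U := Subgroup.pow_mem _ hx₀ _
    set Q₀ := Q.subgroupOf (stab ρ U)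
    have hQp : IsPGroup q Q₀ := hQ.of_equiv (Subgroup.subgroupOfEquivOfLe hQ₀).symm
    have hinv₀ : ∀ g ∈ Q₀, (⟨x, hx₀⟩ : stab ρ U) * g * (⟨x, hx₀⟩ : stab ρ U)⁻¹ ∈ Q₀ := fun g hg => hx _ hg
    have hxP₀ : (⟨x, hx₀⟩ : stab ρ U) ^ p ^ n = 1 := Subtype.ext hxP
    have hy₀' : (⟨x, hx₀⟩ : stab ρ U) ^ p ^ (n - 1) = ⟨y, hy₀⟩ := Subtype.ext rfl
    haveI : Nontrivial U := Submodule.nontrivial_iff_ne_bot.2 hU0
    haveI : Nontrivial (W ⧸ U) := Submodule.Quotient.nontrivial_iff.2 hUt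
    by_cases hsub : ∃ g ∈ Q₀, ¬ Commute (subRep ρ U g) (subRep ρ U ⟨y, hy₀⟩)
    · have hlt : Module.finrank K U < d := hd ▸ Submodule.finrank_lt hUt
      have := ihd _ hlt _ (stab ρ U) U (subRep ρ U) Q₀ ⟨x, hx₀⟩ n r rfl rfl hQp hinv₀ hxP₀ hn
        (by rw [hy₀']; exact hsub) (subRep_nil ρ U ⟨x, hx₀⟩ r hr)
      rw [hy₀'] at this
      refine descend ρ (subRep ρ U) hpq Q hQ hQ₀ y hy₀ hyp hyQ (fun g hg => isScal_subRep ρ U g hg)
        (fun g h hgh => ?_) this
      exact LinearMap.ext fun u => Subtype.ext (LinearMap.congr_fun hgh.eq (u : W))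
    push Not at hsub
    by_cases hquot : ∃ g ∈ Q₀, ¬ Commute (quotRep ρ U g) (quotRep ρ U ⟨y, hy₀⟩)
    · have hlt : Module.finrank K (W ⧸ U) < d := by
        have h1 := Submodule.finrank_quotient_add_finrank U
        have h2 : 0 < Module.finrank K U := Module.finrank_pos
        omega
      have := ihd _ hlt _ (stab ρ U) (W ⧸ U) (quotRep ρ U) Q₀ ⟨x, hx₀⟩ n r rfl rfl hQp hinv₀ hxP₀ hn
        (by rw [hy₀']; exact hquot) (quotRep_nil ρ U ⟨x, hx₀⟩ r hr)
      rw [hy₀'] at this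
      refine descend ρ (quotRep ρ U) hpq Q hQ hQ₀ y hy₀ hyp hyQ (fun g hg => isScal_quotRep ρ U g hg)
        (fun g h hgh => ?_) this
      refine LinearMap.ext fun u => ?_
      obtain ⟨u, rfl⟩ := Submodule.Quotient.mk_surjective U u
      rw [Module.End.mul_apply, Module.End.mul_apply, quotRep_apply, quotRep_apply, quotRep_apply, quotRep_apply]
      exact congrArg _ (LinearMap.congr_fun hgh.eq u)
    push Not at hquot
    exfalso
    apply hg₀
    have h1 := (commute_iff_conj (subRep ρ U) _ _).1 (hsub ⟨g₀, hQ₀ hg₀Q⟩ hg₀Q)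
    have h2 := (commute_iff_conj (quotRep ρ U) _ _).1 (hquot ⟨g₀, hQ₀ hg₀Q⟩ hg₀Q)
    set cg := g₀⁻¹ * (y * g₀ * y⁻¹) with hcg
    have hcgQ : cg ∈ Q := Q.mul_mem (Q.inv_mem hg₀Q) (hyQ _ hg₀Q)
    have hA : ∀ w, (ρ cg - 1) w ∈ U := by
      intro w
      have h3 := LinearMap.congr_fun h2 (Submodule.Quotient.mk w)
      rw [quotRep_apply, quotRep_apply, Submodule.Quotient.eq] at h3
      have h4 : ρ g₀⁻¹ (ρ (y * g₀ * y⁻¹) w - ρ g₀ w) ∈ U := hUQ _ (Q.inv_mem hg₀Q) _ h3
      rw [map_sub, ← Module.End.mul_apply, ← Module.End.mul_apply, ← map_mul, ← map_mul, inv_mul_cancel,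
        map_one] at h4
      exact h4
    have hB : ∀ u ∈ U, ρ cg u = u := by
      intro u hu
      have h3 : ρ (y * g₀ * y⁻¹) u = ρ g₀ u := congrArg Subtype.val (LinearMap.congr_fun h1 ⟨u, hu⟩)
      rw [hcg, map_mul, Module.End.mul_apply, h3, ← Module.End.mul_apply, ← map_mul, inv_mul_cancel, map_one]
      rfl
    have hsq : (ρ cg - 1) ^ 2 = 0 := by
      refine LinearMap.ext fun w => ?_
      rw [sq, Module.End.mul_apply]
      show ρ cg _ - _ = 0
      rw [hB _ (hA w), Module.End.one_apply, sub_self]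
    have hone : ρ cg = 1 := by
      refine hunip cg hcgQ ?_
      have h5 := sub_one_pow_char (K := K) p 1 (ρ cg)
      rw [pow_one] at h5
      have h6 : (ρ cg - 1) ^ p = 0 := by
        obtain ⟨j, hj⟩ := Nat.exists_eq_add_of_le hp.two_le
        rw [hj, pow_add, hsq, zero_mul]
      rw [h6] at h5
      exact sub_eq_zero.1 h5.symm
    rw [commute_iff_conj, show y * g₀ * y⁻¹ = g₀ * cg by rw [hcg]; group, map_mul, hone, mul_one]
  push Not at hred
  have hirr : ∀ U : Submodule K W, (∀ g ∈ Q, ∀ u ∈ U, ρ g u ∈ U) → (∀ u ∈ U, ρ x u ∈ U) → U = ⊥ ∨ U = ⊤ :=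
    fun U h1 h2 => by
      by_cases h0 : U = ⊥
      · exact Or.inl h0
      · exact Or.inr (hred U h1 h2 h0)
  -- the subgroup generated by `[Q, y]`
  set Qy := Subgroup.closure {e : G | ∃ g ∈ Q, e = g⁻¹ * (y * g * y⁻¹)} with hQy
  have hQyle : Qy ≤ Q := by
    rw [hQy, Subgroup.closure_le]
    rintro _ ⟨g, hg, rfl⟩
    exact Q.mul_mem (Q.inv_mem hg) (hyQ g hg)
  have hQyinv : ∀ g ∈ Qy, x * g * x⁻¹ ∈ Qy := by
    intro g hg
    have h1 : Qy.map (MulAut.conj x).toMonoidHom ≤ Qy := by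
      rw [hQy, MonoidHom.map_closure, Subgroup.closure_le]
      rintro _ ⟨_, ⟨h, hh, rfl⟩, rfl⟩
      refine Subgroup.subset_closure ⟨x * h * x⁻¹, hx h hh, ?_⟩
      have hc : y * x = x * y := by rw [hy, ← pow_succ, ← pow_succ']
      have hc' : x⁻¹ * y⁻¹ = y⁻¹ * x⁻¹ := by rw [← mul_inv_rev, hc, mul_inv_rev]
      simp only [MulEquiv.coe_toMonoidHom, MulAut.conj_apply]
      calc x * (h⁻¹ * (y * h * y⁻¹)) * x⁻¹ = x * h⁻¹ * x⁻¹ * ((x * y) * h * (y⁻¹ * x⁻¹)) := by group
        _ = x * h⁻¹ * x⁻¹ * ((y * x) * h * (x⁻¹ * y⁻¹)) := by rw [hc, hc']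
        _ = _ := by group
    exact h1 ⟨g, hg, rfl⟩
  have hQyeq : Qy = Q := by
    by_contra hne
    have hcom := hex Qy (lt_of_le_of_ne hQyle hne) hQyinv
    apply hg₀
    set cg := g₀⁻¹ * (y * g₀ * y⁻¹) with hcg
    have hcgmem : cg ∈ Qy := Subgroup.subset_closure ⟨g₀, hg₀Q, rfl⟩
    have hfix : ρ (y * cg * y⁻¹) = ρ cg := (commute_iff_conj ρ _ _).1 (hcom cg hcgmem)
    have hit : ∀ k : ℕ, ρ (y ^ k * g₀ * (y ^ k)⁻¹) = ρ g₀ * ρ cg ^ k := by
      intro k
      induction k with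
      | zero => simp
      | succ k ih =>
        calc ρ (y ^ (k + 1) * g₀ * (y ^ (k + 1))⁻¹) = ρ y * ρ (y ^ k * g₀ * (y ^ k)⁻¹) * ρ y⁻¹ := by
              rw [← map_mul, ← map_mul]; congr 1; rw [pow_succ']; group
          _ = ρ y * ρ (g₀ * cg ^ k) * ρ y⁻¹ := by rw [ih, map_mul ρ g₀, map_pow ρ cg k]
          _ = ρ (y * g₀ * y⁻¹) * ρ (y * cg * y⁻¹) ^ k := by
              rw [← map_mul, ← map_mul, ← map_pow, conj_pow, ← map_mul]; congr 1; group
          _ = ρ g₀ * ρ cg ^ (k + 1) := by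
              rw [hfix, pow_succ', ← mul_assoc, ← map_mul, show g₀ * cg = y * g₀ * y⁻¹ by rw [hcg]; group]
    have hp1 := hit p
    rw [hyp, one_mul, inv_one, mul_one] at hp1
    have hcp : ρ cg ^ p = 1 := by
      have := congrArg (fun f => ρ g₀⁻¹ * f) hp1
      simp only [← mul_assoc, ← map_mul, inv_mul_cancel, map_one, one_mul] at this
      exact this.symm
    have hone := hunip cg (hQyle hcgmem) hcp
    rw [commute_iff_conj, show y * g₀ * y⁻¹ = g₀ * cg by rw [hcg]; group, map_mul, hone, mul_one]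
  have hgen : ∀ f : Module.End K W,
      (∀ g ∈ Q, Commute (ρ (g⁻¹ * (y * g * y⁻¹))) f) → ∀ g ∈ Q, Commute (ρ g) f := by
    intro f hf g hg
    have hle : Qy ≤ commSub ρ f := by
      rw [hQy, Subgroup.closure_le]
      rintro _ ⟨h, hh, rfl⟩
      exact hf h hh
    exact hle (hQyeq.symm ▸ hg)
  have hQbot : Q ≠ ⊥ := by
    intro h
    rw [h, Subgroup.mem_bot] at hg₀Q
    exact hg₀ (by rw [hg₀Q, map_one]; exact Commute.one_left _)
  have hDlt : ⁅Q, Q⁆ < Q := by
    haveI := hQ.isNilpotent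
    haveI : Group.IsSolvable Q := inferInstance
    have hQ0 : (⊤ : Subgroup Q) ≠ ⊥ := by
      intro h
      haveI := Subgroup.subsingleton_iff.1 (subsingleton_of_bot_eq_top h.symm)
      exact hQbot (Subgroup.eq_bot_of_subsingleton Q)
    have := Group.IsSolvable.commutator_lt_of_ne_bot hQ0
    have h2 := Subgroup.map_commutator (⊤ : Subgroup Q) ⊤ Q.subtype
    rw [← MonoidHom.range_eq_map, Subgroup.range_subtype] at h2
    refine lt_of_le_of_ne (Subgroup.commutator_le_self _) fun he => ?_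
    rw [← h2] at he
    apply this.ne
    apply Subgroup.map_injective Q.subtype_injective
    rw [he, ← MonoidHom.range_eq_map, Subgroup.range_subtype]
  have hDinv : ∀ g ∈ ⁅Q, Q⁆, ∀ h, (∀ k ∈ Q, h * k * h⁻¹ ∈ Q) → h * g * h⁻¹ ∈ ⁅Q, Q⁆ := by
    intro g hg h hh
    have h1 : (⁅Q, Q⁆ : Subgroup G).map (MulAut.conj h).toMonoidHom ≤ ⁅Q, Q⁆ := by
      rw [Subgroup.map_commutator]
      apply Subgroup.commutator_mono <;> rintro _ ⟨k, hk, rfl⟩ <;> exact hh k hk
    exact h1 ⟨g, hg, rfl⟩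
  have hDy : ∀ g ∈ ⁅Q, Q⁆, Commute (ρ g) (ρ y) := hex _ hDlt (fun g hg => hDinv g hg x hx)
  have hDQ : ∀ f ∈ ⁅Q, Q⁆, ∀ g ∈ Q, Commute (ρ g) (ρ f) := by
    intro f hf
    refine hgen _ fun g hg => ?_
    have h1 : g * f * g⁻¹ ∈ ⁅Q, Q⁆ := hDinv f hf g fun k hk => Q.mul_mem (Q.mul_mem hg hk) (Q.inv_mem hg)
    have e1 : ρ (y * f * y⁻¹) = ρ f := (commute_iff_conj ρ _ _).1 (hDy f hf)
    have e2 : ρ (y * (g * f * g⁻¹) * y⁻¹) = ρ (g * f * g⁻¹) := (commute_iff_conj ρ _ _).1 (hDy _ h1)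
    rw [show y * (g * f * g⁻¹) * y⁻¹ = (y * g * y⁻¹) * (y * f * y⁻¹) * (y * g * y⁻¹)⁻¹ by group, map_mul, map_mul,
      e1, ← map_mul, ← map_mul] at e2
    rw [Commute.symm_iff, commute_iff_conj]
    calc ρ (g⁻¹ * (y * g * y⁻¹) * f * (g⁻¹ * (y * g * y⁻¹))⁻¹) =
        ρ g⁻¹ * ρ ((y * g * y⁻¹) * f * (y * g * y⁻¹)⁻¹) * ρ g := by
          rw [← map_mul, ← map_mul]; congr 1; group
      _ = ρ g⁻¹ * ρ (g * f * g⁻¹) * ρ g := by rw [e2]
      _ = ρ f := by rw [← map_mul, ← map_mul]; congr 1; group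
  set Zc : Subgroup G := Q ⊓ ⨅ h : Q, commSub ρ (ρ (h : G)) with hZc
  have hZmem : ∀ g, g ∈ Zc ↔ g ∈ Q ∧ ∀ h ∈ Q, Commute (ρ g) (ρ h) := fun g => by
    rw [hZc, Subgroup.mem_inf, Subgroup.mem_iInf]
    exact ⟨fun h => ⟨h.1, fun k hk => h.2 ⟨k, hk⟩⟩, fun h => ⟨h.1, fun k => h.2 k k.2⟩⟩
  have hZinv : ∀ (i : ℕ) (z : G), z ∈ Zc → (x ^ i)⁻¹ * z * x ^ i ∈ Zc := by
    intro i z hz
    rw [hZmem] at hz ⊢
    refine ⟨inv_conj_mem hx i z hz.1, fun h hh => ?_⟩
    have h1 := conj_commute ρ (hz.2 _ (conj_pow_mem hx i h hh)) (x ^ i)⁻¹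
    rw [inv_inv] at h1
    rwa [show (x ^ i)⁻¹ * (x ^ i * h * (x ^ i)⁻¹) * x ^ i = h by group] at h1
  by_cases hscal : ∀ z ∈ Zc, IsScal (ρ z)
  · -- central elements act as scalars
    have hNC : NonComm ρ Q := fun hall =>
      hg₀ ((hscal g₀ ((hZmem g₀).2 ⟨hg₀Q, hall g₀ hg₀Q⟩)).commute _)
    have hcentral : ∀ g ∈ Q, (∀ h ∈ Q, Commute (ρ g) (ρ h)) → IsScal (ρ g) := fun g hg h =>
      hscal g ((hZmem g).2 ⟨hg, h⟩)
    have hcomm : ∀ g ∈ Q, ∀ h ∈ Q, ∃ t : K, ρ (h * g * h⁻¹) = t • ρ g := by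
      intro g hg h hh
      have hm : h * g * h⁻¹ * g⁻¹ ∈ ⁅Q, Q⁆ := by
        have := Subgroup.commutator_mem_commutator hh hg
        rwa [commutatorElement_def] at this
      obtain ⟨t, ht⟩ := hcentral _ (Subgroup.commutator_le_self _ hm) fun k hk => (hDQ _ hm k hk).symm
      refine ⟨t, ?_⟩
      rw [show h * g * h⁻¹ = (h * g * h⁻¹ * g⁻¹) * g by group, map_mul, ht, smul_mul_assoc, one_mul]
    have hspan := span_eq_top_of_scalar ρ (p ^ n) (pow_pos hp.pos n) Q x hx hxP hcomm hcentral hirr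
    have hfree : ∀ i : ℕ, 0 < i → i < p ^ n → ∀ g ∈ Q, (∃ t : K, ρ (x ^ i * g * (x ^ i)⁻¹) = t • ρ g) →
        IsScal (ρ g) := by
      rintro i hi hiP g hg ⟨t, ht⟩
      have hymem : y ∈ Submonoid.powers (x ^ i) := by
        rw [mem_powers_iff_mem_zpowers]
        obtain ⟨e, he, hgcd⟩ := (Nat.dvd_prime_pow hp).1 (Nat.gcd_dvd_right i (p ^ n))
        have hen : e < n := by
          refine lt_of_le_of_ne he fun h => ?_
          have := Nat.le_of_dvd hi (Nat.gcd_dvd_left i (p ^ n))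
          rw [hgcd, h] at this
          omega
        have hg2 : x ^ p ^ e ∈ Subgroup.zpowers (x ^ i) := by
          refine ⟨Nat.gcdA i (p ^ n), ?_⟩
          show (x ^ i) ^ Nat.gcdA i (p ^ n) = _
          rw [← zpow_natCast x (p ^ e), ← hgcd, Nat.gcd_eq_gcd_ab, zpow_add, zpow_mul, zpow_mul,
            zpow_natCast, zpow_natCast, hxP, one_zpow, mul_one]
        have : y = (x ^ p ^ e) ^ p ^ (n - 1 - e) := by
          rw [hy, ← pow_mul, ← pow_add]; congr 2; omega
        rw [this]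
        exact Subgroup.pow_mem _ hg2 _
      obtain ⟨j, hj⟩ := hymem
      have hj' : (x ^ i) ^ j = y := hj
      have hit : ∀ k : ℕ, ρ ((x ^ i) ^ k * g * ((x ^ i) ^ k)⁻¹) = t ^ k • ρ g := by
        intro k
        induction k with
        | zero => simp
        | succ k ih =>
          calc ρ ((x ^ i) ^ (k + 1) * g * ((x ^ i) ^ (k + 1))⁻¹) =
              ρ (x ^ i) * ρ ((x ^ i) ^ k * g * ((x ^ i) ^ k)⁻¹) * ρ (x ^ i)⁻¹ := by
                rw [← map_mul, ← map_mul]; congr 1; rw [pow_succ']; group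
            _ = t ^ k • ρ (x ^ i * g * (x ^ i)⁻¹) := by rw [ih, mul_smul_comm, smul_mul_assoc, ← map_mul, ← map_mul]
            _ = t ^ (k + 1) • ρ g := by rw [ht, smul_smul, pow_succ]
      have hjp := hit (j * p)
      rw [pow_mul (x ^ i) j p, hj', hyp, one_mul, inv_one, mul_one] at hjp
      have hζ : (t ^ j) ^ p = 1 := by
        rw [← pow_mul]
        by_contra hne
        have h2 : (t ^ (j * p) - 1) • ρ g = 0 := by rw [sub_smul, one_smul, ← hjp, sub_self]
        exact rep_ne_zero ρ g ((smul_eq_zero.1 h2).resolve_left (sub_ne_zero.2 hne))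
      have hone : t ^ j = 1 := by
        have h2 : (t ^ j - 1) ^ p = 0 := by
          rw [sub_pow_char, one_pow, hζ, sub_self]
        exact sub_eq_zero.1 (eq_zero_of_pow_eq_zero h2)
      have hgy : ρ (y * g * y⁻¹) = ρ g := by
        have := hit j
        rwa [hj', hone, one_smul] at this
      refine hcentral g hg fun h hh => ?_
      refine (hgen (ρ g) (fun k hk => ?_) h hh).symm
      obtain ⟨s, hs⟩ := hcomm g hg k hk
      rw [Commute.symm_iff, commute_iff_conj]
      have e2 : ρ (y * (k * g * k⁻¹) * y⁻¹) = ρ (k * g * k⁻¹) := by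
        have := rep_conj_smul ρ (g := k * g * k⁻¹) hs y
        rw [← map_mul, ← map_mul, hgy, ← hs] at this
        exact this
      calc ρ (k⁻¹ * (y * k * y⁻¹) * g * (k⁻¹ * (y * k * y⁻¹))⁻¹) =
          ρ k⁻¹ * (ρ ((y * k * y⁻¹) * (y * g * y⁻¹) * (y * k * y⁻¹)⁻¹)) * ρ k := by
            have e3 : ρ ((y * k * y⁻¹) * (y * g * y⁻¹) * (y * k * y⁻¹)⁻¹) =
                ρ ((y * k * y⁻¹) * g * (y * k * y⁻¹)⁻¹) := by
              simp only [map_mul] at hgy ⊢
              rw [hgy]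
            rw [e3, ← map_mul, ← map_mul]; congr 1; group
        _ = ρ k⁻¹ * ρ (k * g * k⁻¹) * ρ k := by
            rw [← e2]; congr 3; group
        _ = ρ g := by rw [← map_mul, ← map_mul]; congr 1; group
    have hnt : ∃ g ∈ Q, ¬ IsScal (ρ g) := ⟨g₀, hg₀Q, fun h => hg₀ (h.commute _)⟩
    rcases free_bound ρ p q n Q x hQ hx hxP hp.pos hspan hcomm hcentral hnt hfree r hr with h | ⟨h, m, hm, hm'⟩
    · exact Or.inl h
    · exact Or.inr ⟨n, m, hn, le_rfl, hm, hm', fun _ => rfl, hNC, by simpa using h⟩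
  -- a non-scalar central element
  push Not at hscal
  obtain ⟨z₀, hz₀, hz₀ns⟩ := hscal
  obtain ⟨U, hU0, hUinv, hUmin⟩ := exists_min_invariant ρ Q
  haveI : Nontrivial U := Submodule.nontrivial_iff_ne_bot.2 hU0
  have hsc : ∀ z ∈ Zc, ∃ l : K, ∀ u ∈ U, ρ z u = l • u := by
    intro z hz
    rw [hZmem] at hz
    obtain ⟨l, hl⟩ := Module.End.exists_eigenvalue ((ρ z).restrict (hUinv z hz.1))
    obtain ⟨v, hv⟩ := hl.exists_hasEigenvector
    refine ⟨l, fun u hu => ?_⟩
    have hvz : ρ z (v : W) = l • (v : W) := congrArg Subtype.val hv.apply_eq_smul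
    have heq := hUmin (U ⊓ LinearMap.eqLocus (ρ z) (l • (1 : Module.End K W))) inf_le_left
      (fun h => hv.2 (Subtype.ext (by
        have : (v : W) ∈ U ⊓ LinearMap.eqLocus (ρ z) (l • (1 : Module.End K W)) := ⟨v.2, by simpa using hvz⟩
        rwa [h, Submodule.mem_bot] at this)))
      (by
        rintro g hg u ⟨hu, hu'⟩
        refine ⟨hUinv g hg u hu, ?_⟩
        show ρ z (ρ g u) = l • ρ g u
        rw [← Module.End.mul_apply, (hz.2 g hg).eq, Module.End.mul_apply, show ρ z u = l • u by simpa using hu',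
          map_smul])
    have : u ∈ LinearMap.eqLocus (ρ z) (l • (1 : Module.End K W)) := (heq.symm ▸ hu).2
    simpa using this
  choose! lam hlam using hsc
  let Lam : ℕ → G → K := fun i z => lam ((x ^ i)⁻¹ * z * x ^ i)
  have hLam : ∀ i j z, Lam i ((x ^ j)⁻¹ * z * x ^ j) = Lam (j + i) z := fun i j z => by
    show lam _ = lam _
    congr 1
    rw [pow_add]; group
  let Wl : ℕ → Submodule K W := fun i => ⨅ z ∈ Zc, LinearMap.eqLocus (ρ z) (Lam i z • (1 : Module.End K W))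
  have hWl : ∀ i w, w ∈ Wl i ↔ ∀ z ∈ Zc, ρ z w = Lam i z • w := fun i w => by simp [Wl]
  have hWlQ : ∀ i, ∀ g ∈ Q, ∀ w ∈ Wl i, ρ g w ∈ Wl i := by
    intro i g hg w hw
    rw [hWl] at hw ⊢
    intro z hz
    rw [← Module.End.mul_apply, (((hZmem z).1 hz).2 g hg).eq, Module.End.mul_apply, hw z hz, map_smul]
  have hshift : ∀ i j, ∀ w ∈ Wl j, ρ (x ^ i) w ∈ Wl (i + j) := by
    intro i j w hw
    rw [hWl] at hw ⊢
    intro z hz
    rw [← hLam, ← map_smul, ← hw _ (hZinv i z hz), ← Module.End.mul_apply, ← Module.End.mul_apply,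
      ← map_mul, ← map_mul]
    congr 2; group
  have hUW : U ≤ Wl 0 := fun u hu => by
    rw [hWl]
    intro z hz
    simpa [Lam] using hlam z hz u hu
  set P := p ^ n with hP
  have hP0 : 0 < P := pow_pos hp.pos n
  let Per : ℕ → Prop := fun i => ∀ z ∈ Zc, Lam i z = Lam 0 z
  have hPerP : Per P := fun z _ => by simp [Lam, hxP]
  have hPadd : ∀ a, Per a → ∀ b, ∀ z ∈ Zc, Lam (b + a) z = Lam b z := by
    intro a ha b z hz
    rw [← hLam, ha _ (hZinv b z hz), hLam, add_zero]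
  have hexk : ∃ i, 0 < i ∧ Per i := ⟨P, hP0, hPerP⟩
  set k := Nat.find hexk with hk
  obtain ⟨hk0, hkper⟩ := Nat.find_spec hexk
  have hkmul : ∀ m, Per (m * k) := by
    intro m
    induction m with
    | zero => intro z _; rw [zero_mul]
    | succ m ih => intro z hz; rw [Nat.succ_mul, hPadd k hkper _ z hz, ih z hz]
  have hkP : k ∣ P := by
    refine Nat.dvd_of_mod_eq_zero (by_contra fun h0 => ?_)
    have hper : Per (P % k) := fun z hz => by
      rw [← hPadd _ (hkmul (P / k)) (P % k) z hz, mul_comm, Nat.mod_add_div, hPerP z hz]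
    exact Nat.find_min hexk (Nat.mod_lt P hk0) ⟨Nat.pos_of_ne_zero h0, hper⟩
  obtain ⟨a, ha, hka⟩ := (Nat.dvd_prime_pow hp).1 hkP
  have hWPer : ∀ a, Per a → ∀ b, Wl (b + a) = Wl b := by
    intro a ha b
    refine Submodule.ext fun w => ?_
    rw [hWl, hWl]
    exact forall₂_congr fun z hz => by rw [hPadd a ha b z hz]
  have hsup : (⨆ i, Wl i) = ⊤ := by
    refine (hirr _ (fun g hg u hu => ?_) (fun u hu => ?_)).resolve_left (fun h => hU0 ?_)
    · induction hu using Submodule.iSup_induction' with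
      | mem i w hw => exact Submodule.mem_iSup_of_mem i (hWlQ i g hg w hw)
      | zero => rw [map_zero]; exact Submodule.zero_mem _
      | add a b _ _ iha ihb => rw [map_add]; exact Submodule.add_mem _ iha ihb
    · induction hu using Submodule.iSup_induction' with
      | mem i w hw =>
        refine Submodule.mem_iSup_of_mem (1 + i) ?_
        simpa using hshift 1 i w hw
      | zero => rw [map_zero]; exact Submodule.zero_mem _
      | add a b _ _ iha ihb => rw [map_add]; exact Submodule.add_mem _ iha ihb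
    · exact eq_bot_iff.2 ((hUW.trans (le_iSup Wl 0)).trans (le_of_eq h))
  have hW0top : Wl 0 ≠ ⊤ := by
    intro h
    apply hz₀ns
    refine ⟨Lam 0 z₀, LinearMap.ext fun w => ?_⟩
    have : w ∈ Wl 0 := h ▸ Submodule.mem_top
    simpa using (hWl 0 w).1 this z₀ hz₀
  have hW0bot : Wl 0 ≠ ⊥ := fun h => hU0 (eq_bot_iff.2 (h ▸ hUW))
  haveI : Nontrivial (Wl 0) := Submodule.nontrivial_iff_ne_bot.2 hW0bot
  set x₁ := x ^ k with hx₁
  have hQ₀ : Q ≤ stab ρ (Wl 0) := fun g hg => hWlQ 0 g hg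
  have hx₁0 : x₁ ∈ stab ρ (Wl 0) := fun w hw => by
    have h1 := hshift k 0 w hw
    have h2 := hWPer k hkper 0
    rw [zero_add] at h2
    rw [add_zero, h2] at h1
    exact h1
  set X₁ : Module.End K (Wl 0) := subRep ρ (Wl 0) ⟨x₁, hx₁0⟩ - 1 with hX₁
  have hx₁sub : ρ x₁ - 1 = (ρ x - 1) ^ k := by
    rw [hx₁, map_pow, hka, sub_one_pow_char (K := K)]
  have hrk : (ρ x₁ - 1) ^ r = 0 := by
    rw [hx₁sub, ← pow_mul]
    obtain ⟨j, hj⟩ := Nat.exists_eq_add_of_le (Nat.le_mul_of_pos_left r hk0)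
    rw [hj, pow_add, hr, zero_mul]
  have hexs : ∃ s, X₁ ^ s = 0 := ⟨r, subRep_nil ρ _ ⟨x₁, hx₁0⟩ r hrk⟩
  set s := Nat.find hexs with hs
  have hs0 : X₁ ^ s = 0 := Nat.find_spec hexs
  have hs1 : 0 < s := by
    by_contra h
    have h' : s = 0 := by omega
    rw [h', pow_zero] at hs0
    exact one_ne_zero hs0
  have hks : k * s ≤ r := by
    obtain ⟨v, hv⟩ : ∃ v : Wl 0, (X₁ ^ (s - 1)) v ≠ 0 := by
      by_contra hc
      push Not at hc
      exact Nat.find_min hexs (show s - 1 < s by omega) (LinearMap.ext hc)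
    set u := (X₁ ^ (s - 1)) v with hu
    have hu1 : ((ρ x - 1) ^ (k * (s - 1))) (v : W) = (u : W) := by
      rw [pow_mul, ← hx₁sub, hu, hX₁, subRep_pow]
    have hne : ((ρ x - 1) ^ (k - 1)) (u : W) ≠ 0 := by
      rw [hka, sub_one_pow_pred (K := K), LinearMap.sum_apply, Finset.sum_range]
      intro hzero
      apply hv
      have hall := weight_indep (K := K) (T := fun z : Zc => ρ (z : G))
        (μ := fun (i : Fin (p ^ a)) (z : Zc) => Lam i z) ?_ Finset.univ
        (fun i : Fin (p ^ a) => (ρ x ^ (i : ℕ)) (u : W)) ?_ hzero ⟨0, pow_pos hp.pos a⟩ (Finset.mem_univ _)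
      · exact Subtype.ext (by simpa using hall)
      · intro i j hij
        by_contra hc
        push Not at hc
        have key : ∀ i j : Fin (p ^ a), (i : ℕ) < (j : ℕ) → (∀ z : Zc, Lam i z = Lam j z) → False := by
          intro i j hlt heq
          refine Nat.find_min hexk (show (j : ℕ) - i < Nat.find hexk by rw [← hk, hka]; omega) ⟨by omega, fun z hz => ?_⟩
          have hiP : (i : ℕ) ≤ P := by
            have := Nat.le_of_dvd hP0 hkP; omega
          have h1 := heq ⟨_, hZinv (P - i) z hz⟩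
          rw [hLam, hLam, Nat.sub_add_cancel hiP, hPerP z hz,
            show P - (i : ℕ) + j = ((j : ℕ) - i) + P by omega, hPadd P hPerP _ z hz] at h1
          exact h1.symm
        rcases lt_trichotomy (i : ℕ) j with h | h | h
        · exact key i j h hc
        · exact hij (Fin.ext h)
        · exact key j i h fun z => (hc z).symm
      · intro i _ z
        have h1 := hshift i 0 _ u.2
        rw [add_zero, hWl, map_pow] at h1
        exact h1 z z.2
    by_contra hlt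
    push Not at hlt
    apply hne
    rw [← hu1, ← Module.End.mul_apply, ← pow_add]
    obtain ⟨s', hs'⟩ : ∃ s', s = s' + 1 := ⟨s - 1, by omega⟩
    rw [hs', Nat.add_sub_cancel]
    rw [hs', Nat.mul_succ] at hlt
    obtain ⟨j, hj⟩ := Nat.exists_eq_add_of_le (show r ≤ k - 1 + k * s' by omega)
    rw [hj, pow_add, hr, zero_mul, LinearMap.zero_apply]
  have hkPow : k = p ^ a := hka
  by_cases han : a = n
  · left
    rw [← han, ← hkPow]
    exact le_trans (Nat.le_mul_of_pos_right k hs1) hks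
  have hyx : y = x₁ ^ p ^ (n - a - 1) := by
    rw [hy, hx₁, hkPow, ← pow_mul, ← pow_add]; congr 2; omega
  have hy₀ : y ∈ stab ρ (Wl 0) := hyx ▸ Subgroup.pow_mem _ hx₁0 _
  have hnc' : ∃ g ∈ Q.subgroupOf (stab ρ (Wl 0)), ¬ Commute (subRep ρ (Wl 0) g) (subRep ρ (Wl 0) ⟨y, hy₀⟩) := by
    by_contra hc
    push Not at hc
    apply hg₀
    have hall : ∀ i, ∀ g ∈ Q, ∀ w ∈ Wl i, ρ g (ρ y w) = ρ y (ρ g w) := by
      intro i g hg w hw
      have hPi : Wl (P * i) = Wl 0 := by
        have h1 := hWPer (P * i) (fun z hz => by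
          have : x ^ (P * i) = 1 := by rw [pow_mul, hxP, one_pow]
          simp [Lam, this]) 0
        rwa [zero_add] at h1
      set j := P * i - i with hj
      have hji : j + i = P * i := by
        rw [hj]; exact Nat.sub_add_cancel (Nat.le_mul_of_pos_left i hP0)
      set w0 := ρ (x ^ j) w with hw0
      have hw0mem : w0 ∈ Wl 0 := by
        have := hshift j i w hw
        rwa [hji, hPi] at this
      have hw' : w = ρ (x ^ i) w0 := by
        rw [hw0, ← Module.End.mul_apply, ← map_mul, ← pow_add, add_comm, hji, pow_mul, hxP, one_pow, map_one]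
        rfl
      have hcomm := congrArg Subtype.val
        (LinearMap.congr_fun (hc ⟨_, hQ₀ (inv_conj_mem hx i g hg)⟩ (inv_conj_mem hx i g hg)).eq ⟨w0, hw0mem⟩)
      change ρ ((x ^ i)⁻¹ * g * x ^ i) (ρ y w0) = ρ y (ρ ((x ^ i)⁻¹ * g * x ^ i) w0) at hcomm
      have hyxi : y * x ^ i = x ^ i * y := (((Commute.refl x).pow_left _).pow_right _).eq
      have h2 := congrArg (ρ (x ^ i)) hcomm
      simp only [← Module.End.mul_apply, ← map_mul] at h2
      rw [hw']
      simp only [← Module.End.mul_apply, ← map_mul]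
      have eL : g * (y * x ^ i) = x ^ i * ((x ^ i)⁻¹ * g * x ^ i * y) := by rw [hyxi]; group
      have eR : y * (g * x ^ i) = x ^ i * (y * ((x ^ i)⁻¹ * g * x ^ i)) := by
        rw [← mul_assoc (x ^ i) y, ← hyxi]; group
      rw [eL, eR]; exact h2
    show ρ g₀ * ρ y = ρ y * ρ g₀
    refine LinearMap.ext fun w => ?_
    have : (⨆ i, Wl i) ≤ LinearMap.eqLocus (ρ g₀ * ρ y) (ρ y * ρ g₀) := iSup_le fun i w hw => hall i g₀ hg₀Q w hw
    rw [hsup] at this
    exact this (Submodule.mem_top : w ∈ ⊤)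
  have hlt : Module.finrank K (Wl 0) < d := hd ▸ Submodule.finrank_lt hW0top
  have hxP₁ : (⟨x₁, hx₁0⟩ : stab ρ (Wl 0)) ^ p ^ (n - a) = 1 := Subtype.ext (by
    show x₁ ^ p ^ (n - a) = 1
    rw [hx₁, hkPow, ← pow_mul, ← pow_add, Nat.add_sub_cancel' ha, hxP])
  have hy₁ : (⟨x₁, hx₁0⟩ : stab ρ (Wl 0)) ^ p ^ (n - a - 1) = ⟨y, hy₀⟩ := Subtype.ext hyx.symm
  have hrec := ihd _ hlt _ (stab ρ (Wl 0)) (Wl 0) (subRep ρ (Wl 0)) (Q.subgroupOf _) ⟨x₁, hx₁0⟩ (n - a) s
    rfl rfl (hQ.of_equiv (Subgroup.subgroupOfEquivOfLe hQ₀).symm)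
    (fun g hg => conj_pow_mem hx k _ hg) hxP₁ (by omega) (by rw [hy₁]; exact hnc') hs0
  rw [hy₁] at hrec
  have hrec' := descend ρ (subRep ρ (Wl 0)) hpq Q hQ hQ₀ y hy₀ hyp hyQ (fun g hg => isScal_subRep ρ _ g hg)
    (fun g h hgh => LinearMap.ext fun u => Subtype.ext (LinearMap.congr_fun hgh.eq (u : W))) hrec
  rcases hrec' with h | ⟨n₀, m, h1, h2, h3, h4, h5, h6, h7⟩
  · left
    refine le_trans (le_of_eq ?_) (le_trans (Nat.mul_le_mul_left k h) hks)
    rw [hkPow, ← pow_add, Nat.add_sub_cancel' ha]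
  · refine Or.inr ⟨n₀, m, h1, le_trans h2 (Nat.sub_le _ _), h3, h4, fun hS => ?_, h6, ?_⟩
    · exfalso
      apply hz₀ns
      refine hS z₀ ((hZmem z₀).1 hz₀).1 ?_
      refine hex Zc (lt_of_le_of_ne inf_le_left fun he => ?_) (fun z hz => ?_) z₀ hz₀
      · obtain ⟨g, hg, hgnc⟩ := hnc'
        apply hgnc
        have hgZ : (g : G) ∈ Zc := he.symm ▸ hg
        refine (IsScal.commute ⟨Lam 0 (g : G), ?_⟩ _)
        refine LinearMap.ext fun w => Subtype.ext ?_
        exact (hWl 0 (w : W)).1 w.2 _ hgZ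
      · have h1 := hZinv (orderOf x - 1) z hz
        rwa [← inv_eq_pow, inv_inv] at h1
    · refine le_trans (le_of_eq ?_) (le_trans (Nat.mul_le_mul_left k h7) hks)
      rw [hkPow, ← mul_assoc, ← pow_add]
      congr 2
      omega

/-- Hall–Higman theorem B for a `q`-group normalised by a `p`-element. -/
theorem theoremB {G : Type u} [Group G] [Finite G] {W : Type v} [AddCommGroup W] [Module K W]
    [FiniteDimensional K W] (p q : ℕ) [Fact p.Prime] [Fact q.Prime] [CharP K p] (hpq : p ≠ q)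
    (ρ : Representation K G W) (Q : Subgroup G) (x : G) (n r : ℕ) (hQ : IsPGroup q Q)
    (hx : ∀ g ∈ Q, x * g * x⁻¹ ∈ Q) (hxP : x ^ p ^ n = 1) (hn : 1 ≤ n)
    (hnc : ∃ g ∈ Q, ¬ Commute (ρ g) (ρ (x ^ p ^ (n - 1)))) (hr : (ρ x - 1) ^ r = 0) :
    Bound p q n r (Strong ρ Q (x ^ p ^ (n - 1))) (NonComm ρ Q) :=
  theoremB_aux p q hpq _ _ G W ρ Q x n r rfl rfl hQ hx hxP hn hnc hr

end CfsgLib.HallHigman
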